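import Groth.Agent.ARLib.Adic

/-! adapted systems -/

universe w v u

open CategoryTheory CategoryTheory.Limits Opposite ARSys

namespace Groth.Agent.ARLib

set_option backward.isDefEq.respectTransparency.types false

variable {C : Type u} [Category.{v} C] [Abelian C] {A : Type w} [CommRing A] [Linear A C] {J : Ideal A}

theorem imageSubobject_le_kernelSubobject_iff {U V W : C} (f : U ⟶ V) (g : V ⟶ W) :
    imageSubobject f ≤ kernelSubobject g ↔ f ≫ g = 0 :=
  ⟨fun h => by
    rw [← imageSubobject_arrow_comp f, Category.assoc, ← Subobject.ofLE_arrow h, Category.assoc,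
      kernelSubobject_arrow_comp, comp_zero, comp_zero],
  fun h => imageSubobject_le _ (factorThruKernelSubobject g f h) (factorThruKernelSubobject_comp_arrow _ _ _)⟩

theorem arrow_comp_eq_zero {V W : C} {S : Subobject V} (hS : S = ⊥) (g : V ⟶ W) : S.arrow ≫ g = 0 := by
  rw [hS, Subobject.bot_arrow, zero_comp]

theorem top_arrow_comp_eq_zero_iff {V W : C} (g : V ⟶ W) : (⊤ : Subobject V).arrow ≫ g = 0 ↔ g = 0 :=
  ⟨fun h => by rw [← cancel_epi (⊤ : Subobject V).arrow, h, comp_zero], fun h => by rw [h, comp_zero]⟩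

theorem Fsub_succ (X : PS C) {k n : ℕ} (h : k ≤ n) : Fsub X (k + 1) n = kernelSubobject (tr X h) := dif_pos h

theorem Fsub_succ' (X : PS C) {k n : ℕ} (h : ¬k ≤ n) : Fsub X (k + 1) n = ⊥ := dif_neg h

theorem Fsub_antitone (X : PS C) {q q' n : ℕ} (h : q ≤ q') : Fsub X q' n ≤ Fsub X q n := by
  match q, q' with
  | 0, _ => exact le_top
  | k + 1, 0 => omega
  | k + 1, l + 1 =>
    by_cases hl : l ≤ n
    · rw [Fsub_succ X hl, Fsub_succ X (show k ≤ n by omega), ← tr_tr X (show k ≤ l by omega) hl]
      exact kernelSubobject_comp_le _ _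
    · rw [Fsub_succ' X hl]
      exact bot_le

theorem smul_id_tr (X : PS C) {k n : ℕ} (h : k ≤ n) (a : A) :
    (a • 𝟙 (X.obj (op n))) ≫ tr X h = tr X h ≫ (a • 𝟙 (X.obj (op k))) := by
  rw [Linear.smul_comp, Category.id_comp, Linear.comp_smul, Category.comp_id]

theorem isAdapted_iff (X : PS C) :
    IsAdapted J X ↔ ∀ (n p q : ℕ), ∀ a ∈ J ^ p,
      imageSubobject ((Fsub X q n).arrow ≫ (a • 𝟙 (X.obj (op n)))) ≤ Fsub X (p + q) n := by
  constructor
  · intro h n p q a ha
    have top : ∀ k, k + 1 ≤ p → (a • 𝟙 (X.obj (op k))) = 0 := fun k hk => by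
      refine (top_arrow_comp_eq_zero_iff _).1 ?_
      have := h k (k + 1) le_rfl a (Ideal.pow_le_pow_right hk ha)
      rwa [Nat.sub_self] at this
    by_cases hpq : p + q ≤ n + 1
    · rcases hs : p + q with _ | k
      · exact le_top
      have hk : k ≤ n := by omega
      rw [Fsub_succ X hk, imageSubobject_le_kernelSubobject_iff, Category.assoc, smul_id_tr]
      match q with
      | 0 => rw [top k (by omega), comp_zero, comp_zero]
      | l + 1 =>
        have hln : l ≤ n := by omega
        have hlk : l ≤ k := by omega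
        obtain ⟨z, hz⟩ : ∃ z, z ≫ (kernelSubobject (tr X hlk)).arrow = (Fsub X (l + 1) n).arrow ≫ tr X hk :=
          ⟨factorThruKernelSubobject _ _ (by rw [Category.assoc, tr_tr, Fsub_succ X hln, kernelSubobject_arrow_comp]),
            factorThruKernelSubobject_comp_arrow _ _ _⟩
        have h0 := h k p (by omega) a ha
        rw [show k + 1 - p = l + 1 by omega, Fsub_succ X hlk] at h0
        rw [← reassoc_of% hz, h0, comp_zero]
    · refine le_of_eq_of_le ?_ bot_le
      suffices e : (Fsub X q n).arrow ≫ (a • 𝟙 (X.obj (op n))) = 0 by rw [e, imageSubobject_zero]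
      by_cases hp : p ≤ n + 1
      · rw [← Subobject.ofLE_arrow (Fsub_antitone X (show n + 1 - p ≤ q by omega)), Category.assoc, h n p hp a ha,
          comp_zero]
      · rw [top n (by omega), comp_zero]
  · intro h n p hp a ha
    have := h n p (n + 1 - p) a ha
    rw [show p + (n + 1 - p) = n + 1 by omega, Fsub_succ X le_rfl, imageSubobject_le_kernelSubobject_iff] at this
    simpa using this

end Groth.Agent.ARLib
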