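import Groth.Agent.ARLib.Iso
import Mathlib.CategoryTheory.Linear.Basic

/-! adic systems -/

universe w v u

open CategoryTheory CategoryTheory.Limits Opposite ARSys

namespace Groth.Agent.ARLib

set_option backward.isDefEq.respectTransparency.types false

variable {C : Type u} [Category.{v} C] [Abelian C] {A : Type w} [CommRing A] [Linear A C] {J : Ideal A}

theorem homKilledBy_of_src {I : Ideal A} {X Y : C} (h : KilledBy I X) (φ : X ⟶ Y) : HomKilledBy I φ :=
  fun a ha => by rw [← Category.id_comp φ, ← Linear.smul_comp, h a ha, zero_comp]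

theorem homKilledBy_of_tgt {I : Ideal A} {X Y : C} (h : KilledBy I Y) (φ : X ⟶ Y) : HomKilledBy I φ :=
  fun a ha => by rw [← Category.comp_id φ, ← Linear.comp_smul, h a ha, comp_zero]

theorem killed_comp_left {I : Ideal A} {W X Y : C} {φ : X ⟶ Y} (h : HomKilledBy I φ) (f : W ⟶ X) :
    HomKilledBy I (f ≫ φ) :=
  fun a ha => by rw [← Linear.comp_smul, h a ha, comp_zero]

theorem killed_comp_right {I : Ideal A} {X Y Z : C} {φ : X ⟶ Y} (h : HomKilledBy I φ) (g : Y ⟶ Z) :
    HomKilledBy I (φ ≫ g) :=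
  fun a ha => by rw [← Linear.smul_comp, h a ha, zero_comp]

theorem killed_mono {I I' : Ideal A} {X Y : C} {φ : X ⟶ Y} (h : HomKilledBy I φ) (hI : I' ≤ I) :
    HomKilledBy I' φ := fun a ha => h a (hI ha)

theorem killedBy_of_epi {I : Ideal A} {X Y : C} (h : KilledBy I X) (p : X ⟶ Y) [Epi p] : KilledBy I Y :=
  fun a ha => by
    rw [← cancel_epi p, Linear.comp_smul, Category.comp_id, comp_zero]
    exact homKilledBy_of_src h p a ha

theorem killedBy_of_mono {I : Ideal A} {X Y : C} (h : KilledBy I Y) (i : X ⟶ Y) [Mono i] : KilledBy I X :=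
  fun a ha => by
    rw [← cancel_mono i, Linear.smul_comp, Category.id_comp, zero_comp]
    exact homKilledBy_of_tgt h i a ha

theorem IsQuot.homKilledBy {I : Ideal A} {X Q : C} {p : X ⟶ Q} (h : IsQuot I p) : HomKilledBy I p :=
  homKilledBy_of_tgt h.1 p

theorem IsQuot.epi {I : Ideal A} {X Q : C} {p : X ⟶ Q} (h : IsQuot I p) : Epi p :=
  ⟨fun {Z} a b hab => by
    obtain ⟨ψ, -, hψ⟩ := h.2 Z (p ≫ a) (killed_comp_right (IsQuot.homKilledBy h) a)
    exact (hψ a rfl).trans (hψ b hab.symm).symm⟩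

theorem isQuot_of {I : Ideal A} {X Q : C} {p : X ⟶ Q} [Epi p] (hQ : KilledBy I Q)
    (h : ∀ (Y : C) (φ : X ⟶ Y), HomKilledBy I φ → kernel.ι p ≫ φ = 0) : IsQuot I p :=
  ⟨hQ, fun Y φ hφ => ⟨Abelian.epiDesc p φ (h Y φ hφ), Abelian.comp_epiDesc _ _ _,
    fun ψ hψ => by rw [← cancel_epi p, hψ, Abelian.comp_epiDesc]⟩⟩

theorem isStrict_of_isAdic {X : PS C} (h : IsAdic J X) : IsStrict X :=
  fun n m hnm => IsQuot.epi (h.2 n m hnm)

theorem homKilledBy_app {Y : PS C} (hY : TermKilled J Y) {n : ℕ} {T : C} (φ : T ⟶ Y.obj (op n)) :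
    HomKilledBy (J ^ (n + 1)) φ := homKilledBy_of_tgt (hY n) φ

/-- maps out of an adic system translated descend -/
theorem existsUnique_of_shift {X Y : PS C} (hX : IsAdic J X) (hY : TermKilled J Y) (r : ℕ)
    (f : (shift C r).obj X ⟶ Y) :
    ∃! g : X ⟶ Y, ∀ n : ℕ, f.app (op n) = shiftMap X r n ≫ g.app (op n) := by
  have hex : ∀ n, ∃ g : X.obj (op n) ⟶ Y.obj (op n), tr X (Nat.le_add_right n r) ≫ g = f.app (op n) :=
    fun n => ((hX.2 n (n + r) (Nat.le_add_right n r)).2 _ (f.app (op n)) (homKilledBy_of_tgt (hY n) _)).exists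
  choose g hg using hex
  have hf : ∀ (n m : ℕ) (h : n ≤ m), tr X (Nat.add_le_add_right h r) ≫ f.app (op n) = f.app (op m) ≫ tr Y h :=
    fun n m h => tr_naturality f h
  have nat : ∀ (n m : ℕ) (h : n ≤ m), tr X h ≫ g n = g m ≫ tr Y h := fun n m h => by
    have := IsQuot.epi (hX.2 m (m + r) (Nat.le_add_right m r))
    rw [← cancel_epi (tr X (Nat.le_add_right m r))]
    refine Eq.trans ?_ ((hf n m h).trans ((congrArg (· ≫ tr Y h) (hg m).symm).trans (Category.assoc _ _ _)))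
    refine Eq.trans ?_ (congrArg (_ ≫ ·) (hg n))
    rw [tr_tr_assoc, tr_tr_assoc]
  refine ⟨natMk g nat, fun n => (hg n).symm, fun g' hg' => hom_ext fun n => ?_⟩
  have := IsQuot.epi (hX.2 n (n + r) (Nat.le_add_right n r))
  rw [natMk_app, ← cancel_epi (tr X (Nat.le_add_right n r)), hg]
  exact (hg' n).symm

theorem exists_arIso_of_shift {X Y : PS C} (kX : TermKilled J X) (hY : IsAdic J Y) (r : ℕ)
    (v : (shift C r).obj Y ⟶ X) (hv : IsARIso v) : ∃ u : Y ⟶ X, IsARIso u := by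
  obtain ⟨u, hu, -⟩ := existsUnique_of_shift hY kX r v
  let c : (shift C r).obj Y ⟶ Y := natMk (X := (shift C r).obj Y) (fun n => tr Y (Nat.le_add_right n r))
    (fun n m h => (tr_tr Y _ _).trans (tr_tr Y _ _).symm)
  have hc : IsARIso c := isARIso_of_inv (r := r)
    { ψ := fun n m h => tr Y h
      ψ_u := fun n m h => tr_tr Y _ _
      u_ψ := fun n m h => tr_tr Y _ _
      ψ_tr := fun n n' m h hn => tr_tr Y _ _
      tr_ψ := fun n m m' h hm => tr_tr Y _ _ }
  refine ⟨u, isARIso_of_precomp hc ?_⟩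
  have : c ≫ u = v := hom_ext fun n => (hu n).symm
  rwa [this]

theorem isAdic_X₃ {S : ShortComplex (PS C)} (hS : S.ShortExact) (h₁ : IsStrict S.X₁) (h₂ : IsAdic J S.X₂) :
    IsAdic J S.X₃ := by
  refine ⟨fun n => have := epi_app hS n; killedBy_of_epi (h₂.1 n) (S.g.app (op n)), fun n m h => ?_⟩
  have := epi_app hS m
  have := epi_app hS n
  refine ⟨killedBy_of_epi (h₂.1 n) (S.g.app (op n)), fun T φ hφ => ?_⟩
  obtain ⟨ψ, hψ, -⟩ := (h₂.2 n m h).2 T (S.g.app (op m) ≫ φ) (killed_comp_left hφ _)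
  have := h₁ n m h
  obtain ⟨χ, hχ⟩ := desc_app hS ψ (by
    rw [← cancel_epi (tr S.X₁ h), tr_naturality_assoc, hψ, comp_app_zero_assoc, zero_comp, comp_zero])
  have e : tr S.X₃ h ≫ χ = φ := by
    rw [← cancel_epi (S.g.app (op m)), ← tr_naturality_assoc, hχ, hψ]
  refine ⟨χ, e, fun χ' hχ' => ?_⟩
  have hepi : Epi (tr S.X₃ h) := by
    have := IsQuot.epi (h₂.2 n m h)
    have : Epi (S.g.app (op m) ≫ tr S.X₃ h) := by rw [← tr_naturality]; infer_instance
    exact epi_of_epi (S.g.app (op m)) _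
  rw [← cancel_epi (tr S.X₃ h), e, hχ']

theorem isStrict_X₁ {S : ShortComplex (PS C)} (hS : S.ShortExact) (k₂ : TermKilled J S.X₂) (h₂ : IsStrict S.X₂)
    (h₃ : IsAdic J S.X₃) : IsStrict S.X₁ := by
  intro n m h
  refine Preadditive.epi_of_cancel_zero _ fun {T} c hc => ?_
  have := mono_app hS n
  let π : S.X₂.obj (op n) ⟶ pushout (S.f.app (op n)) c := pushout.inl _ _
  have hk : HomKilledBy (J ^ (n + 1)) (tr S.X₂ h ≫ π) := (killed_comp_right (homKilledBy_app k₂ _) π)
  obtain ⟨φ, hφ⟩ := desc_app hS (tr S.X₂ h ≫ π) (by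
    rw [← tr_naturality_assoc, pushout.condition, reassoc_of% hc, zero_comp])
  obtain ⟨δ, hδ, -⟩ := (h₃.2 n m h).2 _ φ (fun a ha => by
    have := epi_app hS m
    rw [← cancel_epi (S.g.app (op m)), comp_zero, Linear.comp_smul, hφ]
    exact hk a ha)
  have := h₂ n m h
  have e : π = S.g.app (op n) ≫ δ := by
    rw [← cancel_epi (tr S.X₂ h), tr_naturality_assoc, hδ, hφ]
  have : c ≫ pushout.inr (S.f.app (op n)) c = 0 := by
    rw [← pushout.condition]
    change _ ≫ π = 0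
    rw [e, comp_app_zero_assoc, zero_comp]
  exact zero_of_comp_mono _ this

theorem isAdic_X₂ {S : ShortComplex (PS C)} (hS : S.ShortExact)
    (k₂ : TermKilled J S.X₂) (h₁ : IsAdic J S.X₁) (h₃ : IsAdic J S.X₃) : IsAdic J S.X₂ := by
  have str : ∀ (n m : ℕ) (h : n ≤ m), Epi (tr S.X₂ h) := fun n m h => by
    refine Preadditive.epi_of_cancel_zero _ fun {T} c hc => ?_
    have := IsQuot.epi (h₁.2 n m h)
    have := IsQuot.epi (h₃.2 n m h)
    have := epi_app hS m
    obtain ⟨d, hd⟩ := desc_app hS c (by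
      rw [← cancel_epi (tr S.X₁ h), tr_naturality_assoc, hc, comp_zero, comp_zero])
    have : d = 0 := by
      rw [← cancel_epi (tr S.X₃ h), ← cancel_epi (S.g.app (op m)), ← tr_naturality_assoc, hd, hc, comp_zero, comp_zero]
    rw [← hd, this, comp_zero]
  refine ⟨k₂, fun n m h => ?_⟩
  have := str n m h
  refine isQuot_of (k₂ n) fun T φ hφ => ?_
  set x := kernel.ι (tr S.X₂ h) with hx'
  obtain ⟨α, hα, -⟩ := (h₁.2 n m h).2 T (S.f.app (op m) ≫ φ) (killed_comp_left hφ _)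
  have := mono_app hS n
  -- kill the kernel of `T → P`, where `P` is the pushout of `f_n` and `α`
  let i : T ⟶ pushout (S.f.app (op n)) α := pushout.inr _ _
  let π : S.X₂.obj (op n) ⟶ pushout (S.f.app (op n)) α := pushout.inl _ _
  obtain ⟨β, hβ⟩ := desc_app hS (φ ≫ i - tr S.X₂ h ≫ π) (by
    rw [Preadditive.comp_sub, ← tr_naturality_assoc, pushout.condition, reassoc_of% hα, sub_self])
  obtain ⟨δ, hδ, -⟩ := (h₃.2 n m h).2 _ β (fun a ha => by
    have := epi_app hS m
    rw [← cancel_epi (S.g.app (op m)), comp_zero, Linear.comp_smul, hβ, smul_sub,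
      killed_comp_right hφ i a ha, killed_comp_right (homKilledBy_app k₂ (tr S.X₂ h)) π a ha, sub_self])
  have e := congrArg (x ≫ ·) hβ
  simp only [Preadditive.comp_sub, ← hδ] at e
  rw [← tr_naturality_assoc, kernel.condition_assoc, zero_comp, kernel.condition_assoc, zero_comp, sub_zero,
    ← Category.assoc] at e
  exact zero_of_comp_mono i e.symm

end Groth.Agent.ARLib
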