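import Groth.Agent.ARLib.Noeth
import Mathlib.CategoryTheory.ObjectProperty.FiniteProducts
import Mathlib.CategoryTheory.Preadditive.AdditiveFunctor

/-! the abelian category of Noetherian adic systems -/

universe w v u

open CategoryTheory CategoryTheory.Limits Opposite ARSys ZeroObject

namespace Groth.Agent.ARLib

set_option backward.isDefEq.respectTransparency.types false

variable {C : Type u} [Category.{v} C] [Abelian C] {A : Type w} [CommRing A] [IsNoetherianRing A] [Linear A C]
  {J : Ideal A}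

omit [IsNoetherianRing A] in
theorem termKilled_of_adicNoeth {X : PS C} (h : IsAdicNoeth J X) : TermKilled J X := h.1.1

theorem isARAdicNoeth_of_adicNoeth {X : PS C} (h : IsAdicNoeth J X) : IsARAdicNoeth J X :=
  ⟨isARAdic_of_isAdic h.1, h.2⟩

theorem isStrict_of_epi {X Y : PS C} (e : X ⟶ Y) [Epi e] (hX : IsStrict X) : IsStrict Y := fun n m h => by
  have := hX n m h
  have := (NatTrans.epi_iff_epi_app e).1 inferInstance (op n)
  have : Epi (e.app (op m) ≫ tr Y h) := by rw [← tr_naturality]; infer_instance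
  exact epi_of_epi (e.app (op m)) _

/-- maps from adic systems lift uniquely through isomorphisms up to translation from adic systems -/
theorem existsUnique_lift {T Y X : PS C} (hT : IsAdic J T) (hY : IsAdic J Y) (u : Y ⟶ X) (hu : IsARIso u) (g : T ⟶ X) :
    ∃! h : T ⟶ Y, h ≫ u = g := by
  obtain ⟨r, ⟨I⟩⟩ := exists_inv hu
  let g' : ∀ n, T.obj (op (n + r)) ⟶ X.obj (op (n + r)) := fun n => g.app (op (n + r))
  let f : (shift C r).obj T ⟶ Y := natMk (X := (shift C r).obj T) (fun n => g' n ≫ I.ψ n (n + r) le_rfl)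
    fun n m h => by
      change tr T (Nat.add_le_add_right h r) ≫ g' n ≫ _ = (g' m ≫ _) ≫ tr Y h
      rw [Category.assoc, I.ψ_tr, ← I.tr_ψ n (n + r) (m + r) le_rfl (by omega), ← tr_naturality_assoc]
  obtain ⟨h, hh, huniq⟩ := existsUnique_of_shift hT hY.1 r f
  have hh' : ∀ n, g' n ≫ I.ψ n (n + r) le_rfl = tr T (Nat.le_add_right n r) ≫ h.app (op n) := hh
  refine ⟨h, hom_ext fun n => ?_, fun h' hh' => huniq h' fun n => ?_⟩
  · have := IsQuot.epi (hT.2 n (n + r) (Nat.le_add_right n r))
    rw [← cancel_epi (tr T (Nat.le_add_right n r)), NatTrans.comp_app, ← reassoc_of% hh' n, I.ψ_u, tr_naturality]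
  · change g' n ≫ _ = tr T (Nat.le_add_right n r) ≫ h'.app (op n)
    simp only [g', ← hh', NatTrans.comp_app, Category.assoc, I.u_ψ, tr_naturality]

theorem isIso_of_arIso {X Y : PS C} (hX : IsAdic J X) (hY : IsAdic J Y) (u : X ⟶ Y) (hu : IsARIso u) : IsIso u := by
  obtain ⟨s, hs, -⟩ := existsUnique_lift hY hX u hu (𝟙 Y)
  obtain ⟨t, -, ht⟩ := existsUnique_lift hX hX u hu u
  exact ⟨s, (ht (u ≫ s) (show (u ≫ s) ≫ u = u by rw [Category.assoc, hs, Category.comp_id])).trans
    (ht (𝟙 X) (Category.id_comp u)).symm, hs⟩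

theorem isAdicNoeth_cokernel {X Y : PS C} (u : X ⟶ Y) (hX : IsAdicNoeth J X) (hY : IsAdicNoeth J Y) :
    IsAdicNoeth J (cokernel u) := by
  let i := Abelian.image.ι u
  have hS : (ShortComplex.mk i (cokernel.π u) (kernel.condition _)).ShortExact :=
    { exact := ShortComplex.exact_of_f_is_kernel _ (kernelIsKernel (cokernel.π u)) }
  refine ⟨isAdic_X₃ hS (isStrict_of_epi (Abelian.factorThruImage u) (isStrict_of_isAdic hX.1)) hY.1, fun n => ?_⟩
  have := (NatTrans.epi_iff_epi_app (cokernel.π u)).1 inferInstance (op n)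
  have := hY.2 n
  exact SubLat.isNoetherianObject_of_epi ((cokernel.π u).app (op n))

variable (J) in
/-- Noetherian adic systems, as a property -/
abbrev adicNoethProp : ObjectProperty (PS C) := fun X => IsAdicNoeth J X

theorem isAdicNoeth_zero {Z : PS C} (hZ : IsZero Z) : IsAdicNoeth J Z := by
  have hn : ∀ n : ℕ, IsZero (Z.obj (op n)) := fun n => ((evaluation ℕᵒᵖ C).obj (op n)).map_isZero hZ
  refine ⟨⟨fun n a _ => (hn n).eq_of_src _ _, fun n m h => ⟨fun a _ => (hn n).eq_of_src _ _, fun T φ _ => ?_⟩⟩,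
    fun n => isNoetherianObject_of_isZero (hn n)⟩
  exact ⟨0, (hn m).eq_of_src _ _, fun ψ _ => (hn n).eq_of_src _ _⟩

instance : (adicNoethProp J : ObjectProperty (PS C)).ContainsZero :=
  ⟨⟨0, isZero_zero _, isAdicNoeth_zero (isZero_zero _)⟩⟩

instance : (adicNoethProp J : ObjectProperty (PS C)).IsClosedUnderIsomorphisms where
  of_iso {X Y} e hX := by
    have hS : (ShortComplex.mk (0 : (0 : PS C) ⟶ X) e.hom zero_comp).ShortExact := by
      have : Mono (0 : (0 : PS C) ⟶ X) := ⟨fun _ _ _ => (isZero_zero _).eq_of_tgt _ _⟩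
      refine { exact := ?_ }
      exact (ShortComplex.exact_iff_mono _ rfl).2 (inferInstanceAs (Mono e.hom))
    refine ⟨isAdic_X₃ hS (isStrict_of_isAdic (isAdicNoeth_zero (J := J) (isZero_zero _)).1) hX.1, fun n => ?_⟩
    have := hX.2 n
    exact isNoetherianObject_of_mono (e.inv.app (op n))

theorem isAdicNoeth_biprod {X Y : PS C} (hX : IsAdicNoeth J X) (hY : IsAdicNoeth J Y) : IsAdicNoeth J (X ⊞ Y) := by
  have hS := (ShortComplex.Splitting.ofHasBinaryBiproduct X Y).shortExact
  have k : TermKilled J (X ⊞ Y) := fun n a ha => by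
    have hl : a • 𝟙 ((X ⊞ Y).obj (op n)) = (a • (biprod.fst : X ⊞ Y ⟶ X).app (op n)) ≫ (biprod.inl : X ⟶ X ⊞ Y).app (op n) +
        (a • (biprod.snd : X ⊞ Y ⟶ Y).app (op n)) ≫ (biprod.inr : Y ⟶ X ⊞ Y).app (op n) := by
      rw [Linear.smul_comp, Linear.smul_comp, ← smul_add, ← NatTrans.comp_app, ← NatTrans.comp_app,
        ← NatTrans.app_add, biprod.total]
      rfl
    rw [hl, homKilledBy_app hX.1.1 _ a ha, homKilledBy_app hY.1.1 _ a ha, zero_comp, zero_comp, add_zero]
  exact ⟨isAdic_X₂ hS k hX.1 hY.1, fun n =>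
    @SubLat.isNoetherianObject_of_shortExact _ _ _ _ (shortExact_app hS n) (hX.2 n) (hY.2 n)⟩

instance : (adicNoethProp J : ObjectProperty (PS C)).IsClosedUnderBinaryProducts where
  limitsOfShape_le := by
    rintro X ⟨p⟩
    have h1 := p.prop_diag_obj ⟨WalkingPair.left⟩
    have h2 := p.prop_diag_obj ⟨WalkingPair.right⟩
    have e : X ≅ p.diag.obj ⟨WalkingPair.left⟩ ⊞ p.diag.obj ⟨WalkingPair.right⟩ :=
      IsLimit.conePointUniqueUpToIso p.isLimit
        ((IsLimit.postcomposeHomEquiv (diagramIsoPair p.diag).symm _).symm (BinaryBiproduct.isLimit _ _))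
    exact (adicNoethProp J).prop_of_iso e.symm (isAdicNoeth_biprod h1 h2)

instance : HasFiniteProducts (adicNoethProp J : ObjectProperty (PS C)).FullSubcategory :=
  have : (adicNoethProp J : ObjectProperty (PS C)).IsClosedUnderFiniteProducts := .mk'
  inferInstance

variable {X Y : (adicNoethProp J : ObjectProperty (PS C)).FullSubcategory} (f : X ⟶ Y)

omit [IsNoetherianRing A] in
theorem hom_ext' {X Y : (adicNoethProp J : ObjectProperty (PS C)).FullSubcategory} {f g : X ⟶ Y} (h : f.hom = g.hom) :
    f = g := InducedCategory.Hom.ext h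

theorem exists_kernel : ∃ (W : (adicNoethProp J : ObjectProperty (PS C)).FullSubcategory) (w : W.obj ⟶ kernel f.hom),
    IsARIso w := by
  obtain ⟨W, w, hW, hw⟩ := exists_adicNoeth
    (isARAdicNoeth_kernel_cokernel f.hom (isARAdicNoeth_of_adicNoeth X.property) (isARAdicNoeth_of_adicNoeth Y.property)).1
  exact ⟨⟨W, hW⟩, w, hw⟩

instance hasKernel_adicNoeth : HasKernel f := by
  obtain ⟨W, w, hw⟩ := exists_kernel f
  have wf : (ObjectProperty.homMk (w ≫ kernel.ι f.hom) : W ⟶ X) ≫ f = 0 :=
    hom_ext' (by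
      change (w ≫ kernel.ι f.hom) ≫ f.hom = 0
      rw [Category.assoc, kernel.condition, comp_zero])
  have hmono : Mono (ObjectProperty.homMk (w ≫ kernel.ι f.hom) : W ⟶ X) := ⟨fun {T} a b hab => hom_ext' (by
    have hab' : a.hom ≫ w ≫ kernel.ι f.hom = b.hom ≫ w ≫ kernel.ι f.hom := congrArg (·.hom) hab
    rw [← Category.assoc, ← Category.assoc, cancel_mono] at hab'
    exact (existsUnique_lift T.property.1 W.property.1 w hw (b.hom ≫ w)).unique hab' rfl)⟩
  refine HasLimit.mk ⟨KernelFork.ofι _ wf, KernelFork.IsLimit.ofι' _ wf fun {T} t ht => ?_⟩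
  have ht' : t.hom ≫ f.hom = 0 := congrArg (·.hom) ht
  have := existsUnique_lift T.property.1 W.property.1 w hw (kernel.lift f.hom t.hom ht')
  refine ⟨ObjectProperty.homMk this.exists.choose, hom_ext' ?_⟩
  change this.exists.choose ≫ w ≫ kernel.ι f.hom = t.hom
  rw [reassoc_of% this.exists.choose_spec, kernel.lift_ι]

instance hasKernels_adicNoeth : HasKernels (adicNoethProp J : ObjectProperty (PS C)).FullSubcategory :=
  ⟨fun f => hasKernel_adicNoeth f⟩

instance hasCokernels_adicNoeth : HasCokernels (adicNoethProp J : ObjectProperty (PS C)).FullSubcategory := by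
  refine ⟨fun {X Y} f => ?_⟩
  let Q : (adicNoethProp J : ObjectProperty (PS C)).FullSubcategory :=
    ⟨cokernel f.hom, isAdicNoeth_cokernel f.hom X.property Y.property⟩
  have w : f ≫ (ObjectProperty.homMk (cokernel.π f.hom) : Y ⟶ Q) = 0 := hom_ext' (cokernel.condition f.hom)
  refine HasColimit.mk ⟨CokernelCofork.ofπ _ w, CokernelCofork.IsColimit.ofπ _ w
    (fun t ht => ObjectProperty.homMk (cokernel.desc f.hom t.hom (congrArg (·.hom) ht)))
    (fun t ht => hom_ext' (cokernel.π_desc _ _ _))
    (fun t ht b hb => hom_ext' ?_)⟩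
  change b.hom = cokernel.desc f.hom t.hom _
  rw [← cancel_epi (cokernel.π f.hom), cokernel.π_desc]
  exact congrArg (·.hom) hb

theorem isARNull_kernel_of_mono [Mono f] : IsARNull (kernel f.hom) := by
  obtain ⟨W, w, hw⟩ := exists_kernel f
  have : (ObjectProperty.homMk (w ≫ kernel.ι f.hom) : W ⟶ X) = 0 := zero_of_comp_mono f (hom_ext' (by
    change (w ≫ kernel.ι f.hom) ≫ f.hom = 0
    rw [Category.assoc, kernel.condition, comp_zero]))
  have h0 : w = 0 := by
    rw [← cancel_mono (kernel.ι f.hom), zero_comp]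
    exact congrArg (·.hom) this
  obtain ⟨r, ⟨I⟩⟩ := exists_inv hw
  refine ⟨r, fun n => ?_⟩
  have := I.ψ_u n (n + r) le_rfl
  subst h0
  exact this.symm.trans comp_zero

theorem isARIso_factorThruImage [Mono f] : IsARIso (Abelian.factorThruImage f.hom) := by
  obtain ⟨r, hr⟩ := (isARNull_kernel_iff f.hom).1 (isARNull_kernel_of_mono f)
  refine ⟨(isARNull_kernel_iff _).2 ⟨r, fun n m h hm T x hx => hr n m h hm T x ?_⟩,
    (isARNull_cokernel_iff _).2 ⟨0, fun n m h hm T x hx => ?_⟩⟩
  · have e : (Abelian.factorThruImage f.hom ≫ Abelian.image.ι f.hom).app (op m) = f.hom.app (op m) :=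
      congrArg (fun t : X.obj ⟶ Y.obj => t.app (op m)) (Abelian.image.fac f.hom)
    rw [← e, NatTrans.comp_app, ← Category.assoc, hx, zero_comp]
  · have := (NatTrans.epi_iff_epi_app (Abelian.factorThruImage f.hom)).1 inferInstance (op n)
    have hx0 : x = 0 := by rw [← cancel_epi ((Abelian.factorThruImage f.hom).app (op n)), hx, comp_zero]
    rw [hx0, comp_zero]

/-- monomorphisms are kernels -/
noncomputable def normalMono [Mono f] : NormalMono f where
  Z := ⟨cokernel f.hom, isAdicNoeth_cokernel f.hom X.property Y.property⟩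
  g := ObjectProperty.homMk (cokernel.π f.hom)
  w := hom_ext' (cokernel.condition f.hom)
  isLimit := KernelFork.IsLimit.ofι' _ _ fun {T} t ht =>
    have ht' : t.hom ≫ cokernel.π f.hom = 0 := congrArg (·.hom) ht
    have h := existsUnique_lift T.property.1 X.property.1 _ (isARIso_factorThruImage f)
      (kernel.lift _ t.hom ht' : T.obj ⟶ Abelian.image f.hom)
    ⟨ObjectProperty.homMk h.exists.choose, hom_ext' (by
      change h.exists.choose ≫ f.hom = t.hom
      refine (congrArg (h.exists.choose ≫ ·) (Abelian.image.fac f.hom).symm).trans ?_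
      rw [reassoc_of% h.exists.choose_spec]
      exact kernel.lift_ι _ _ _)⟩

theorem epi_hom_of_epi [Epi f] : Epi f.hom := by
  refine Preadditive.epi_of_cokernel_zero ?_
  let Q : (adicNoethProp J : ObjectProperty (PS C)).FullSubcategory :=
    ⟨cokernel f.hom, isAdicNoeth_cokernel f.hom X.property Y.property⟩
  have h : f ≫ (ObjectProperty.homMk (cokernel.π f.hom) : Y ⟶ Q) = 0 := hom_ext' (cokernel.condition f.hom)
  have := zero_of_epi_comp f h
  exact congrArg (·.hom) this

theorem exists_normalEpi [Epi f] : Nonempty (NormalEpi f) := by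
  have := epi_hom_of_epi f
  obtain ⟨W, w, hw⟩ := exists_kernel f
  let k := w ≫ kernel.ι f.hom
  have hk : k ≫ f.hom = 0 := by rw [Category.assoc, kernel.condition, comp_zero]
  let d := cokernel.desc k f.hom hk
  have hd : cokernel.π k ≫ d = f.hom := cokernel.π_desc _ _ _
  have : Epi d := epi_of_epi_fac hd
  obtain ⟨r, ⟨I⟩⟩ := exists_inv hw
  have hdi : IsARIso d := by
    refine ⟨(isARNull_kernel_iff d).2 ⟨r, fun n m h hm T x hx => ?_⟩, (isARNull_cokernel_iff d).2 ⟨0, fun n m h hm T x hx => ?_⟩⟩
    · have := (NatTrans.epi_iff_epi_app (cokernel.π k)).1 inferInstance (op m)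
      obtain ⟨T', π, _, x', hx'⟩ := surjective_up_to_refinements_of_epi ((cokernel.π k).app (op m)) x
      have hx0 : x' ≫ f.hom.app (op m) = 0 := by
        rw [← hd, NatTrans.comp_app, ← reassoc_of% hx', hx, comp_zero]
      obtain ⟨y, rfl⟩ := kernel_lift_app f.hom x' hx0
      rw [← cancel_epi π, comp_zero, reassoc_of% hx', ← tr_naturality, ← tr_naturality_assoc, ← I.ψ_u n m hm]
      simp only [Category.assoc]
      have : w.app (op n) ≫ (kernel.ι f.hom).app (op n) ≫ (cokernel.π k).app (op n) = 0 := by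
        rw [← Category.assoc, ← NatTrans.comp_app, ← NatTrans.comp_app, cokernel.condition]; rfl
      rw [this, comp_zero, comp_zero]
    · have := (NatTrans.epi_iff_epi_app d).1 inferInstance (op n)
      have hx0 : x = 0 := by rw [← cancel_epi (d.app (op n)), hx, comp_zero]
      rw [hx0, comp_zero]
  have : IsIso d := isIso_of_arIso (isAdicNoeth_cokernel k W.property X.property).1 Y.property.1 d hdi
  exact ⟨
    { W := W
      g := ObjectProperty.homMk k
      w := hom_ext' hk
      isColimit := CokernelCofork.IsColimit.ofπ _ _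
        (fun t ht => ObjectProperty.homMk (inv d ≫ cokernel.desc k t.hom (congrArg (·.hom) ht)))
        (fun t ht => hom_ext' (by
          change f.hom ≫ inv d ≫ cokernel.desc k t.hom _ = t.hom
          rw [← hd, Category.assoc, IsIso.hom_inv_id_assoc, cokernel.π_desc]))
        (fun t ht b hb => hom_ext' (by
          change b.hom = inv d ≫ cokernel.desc k t.hom _
          rw [← cancel_epi f.hom]
          refine (congrArg (·.hom) hb).trans ?_
          rw [← hd, Category.assoc, IsIso.hom_inv_id_assoc, cokernel.π_desc])) }⟩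

theorem nonempty_abelian : Nonempty (Abelian (adicNoethProp J : ObjectProperty (PS C)).FullSubcategory) :=
  have : IsNormalMonoCategory (adicNoethProp J : ObjectProperty (PS C)).FullSubcategory := ⟨fun f _ => ⟨normalMono f⟩⟩
  have : IsNormalEpiCategory (adicNoethProp J : ObjectProperty (PS C)).FullSubcategory := ⟨fun f _ => exists_normalEpi f⟩
  ⟨{ }⟩

theorem isNoetherianObject_adicNoeth (Y : (adicNoethProp J : ObjectProperty (PS C)).FullSubcategory) :
    IsNoetherianObject Y := by
  rw [isNoetherianObject_iff_monotone_chain_condition]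
  intro g
  let img : Subobject Y → Subobject Y.obj := fun S => imageSubobject S.arrow.hom
  have himg : Monotone img := fun S T h => by
    change imageSubobject S.arrow.hom ≤ imageSubobject T.arrow.hom
    rw [show S.arrow.hom = (Subobject.ofLE S T h).hom ≫ T.arrow.hom from
      (congrArg (·.hom) (Subobject.ofLE_arrow h)).symm]
    exact imageSubobject_comp_le _ _
  obtain ⟨k₀, hk₀⟩ := strict_chain_stabilizes Y.property ⟨fun i => img (g i), himg.comp g.monotone⟩ fun k => by
    have : Epi (factorThruImageSubobject (g k).arrow.hom) := by unfold factorThruImageSubobject; infer_instance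
    exact isStrict_of_epi (factorThruImageSubobject (g k).arrow.hom) (isStrict_of_isAdic (Subobject.underlying.obj (g k)).property.1)
  refine ⟨k₀, fun m hm => le_antisymm (g.monotone hm) ?_⟩
  have hle : img (g m) ≤ img (g k₀) := (hk₀ m hm).le
  have hu : IsARIso (factorThruImageSubobject (g k₀).arrow.hom) := by
    obtain ⟨r, hr⟩ := (isARNull_kernel_iff _).1 (isARNull_kernel_of_mono (g k₀).arrow)
    refine ⟨(isARNull_kernel_iff _).2 ⟨r, fun n p h hp T x hx => hr n p h hp T x ?_⟩,
      (isARNull_cokernel_iff _).2 ⟨0, fun n p h hp T x hx => ?_⟩⟩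
    · rw [← imageSubobject_arrow_comp (g k₀).arrow.hom, NatTrans.comp_app, ← Category.assoc]
      exact (congrArg (· ≫ _) hx).trans zero_comp
    · have : Epi (factorThruImageSubobject (g k₀).arrow.hom) := by unfold factorThruImageSubobject; infer_instance
      have := (NatTrans.epi_iff_epi_app (factorThruImageSubobject (g k₀).arrow.hom)).1 this (op n)
      have hx0 : x = 0 := by rw [← cancel_epi ((factorThruImageSubobject (g k₀).arrow.hom).app (op n)), hx, comp_zero]
      rw [hx0, comp_zero]
  obtain ⟨h, hh, -⟩ := existsUnique_lift (Subobject.underlying.obj (g m)).property.1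
    (Subobject.underlying.obj (g k₀)).property.1 _ hu
    (factorThruImageSubobject (g m).arrow.hom ≫ Subobject.ofLE _ _ hle)
  refine Subobject.le_of_comm (ObjectProperty.homMk h) (hom_ext' ?_)
  change h ≫ (g k₀).arrow.hom = (g m).arrow.hom
  conv_lhs => rw [← imageSubobject_arrow_comp (g k₀).arrow.hom, reassoc_of% hh, Subobject.ofLE_arrow,
    imageSubobject_arrow_comp]

end Groth.Agent.ARLib
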