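import Mathlib.Order.ModularLattice
import Mathlib.Order.GaloisConnection.Basic
import Mathlib.Order.WellFounded
import Mathlib.Tactic

/-! the Hilbert basis argument, for graded lattices -/

universe u

namespace Groth.Agent.GradedChain

open Set

/-- a monotone double sequence in a poset with stationary chains is uniformly stationary -/
theorem exists_uniform {α : Type*} [PartialOrder α] (hα : ∀ f : ℕ → α, Monotone f → ∃ n, ∀ m, n ≤ m → f m = f n)
    (a : ℕ → ℕ → α) (h1 : ∀ k, Monotone fun i => a i k) (h2 : ∀ i, Monotone (a i)) :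
    ∃ i₀, ∀ i, i₀ ≤ i → ∀ k, a i k = a i₀ k := by
  obtain ⟨P, hP⟩ := hα (fun p => a p p) fun p q h => (h1 p h).trans (h2 q h)
  choose n hn using fun k => hα (fun i => a i k) (h1 k)
  refine ⟨max P ((Finset.range P).sup n), fun i hi k => ?_⟩
  by_cases hk : k < P
  · have : n k ≤ (Finset.range P).sup n := Finset.le_sup (Finset.mem_range.2 hk)
    exact (hn k i (by omega)).trans (hn k _ (by omega)).symm
  · have hle : ∀ j, P ≤ j → a j k = a P P := fun j hj => by
      refine le_antisymm ?_ ((h1 P hj).trans (h2 j (by omega)))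
      exact ((h1 k (le_max_left j k)).trans (h2 _ (le_max_right j k))).trans (hP _ (by omega)).le
    rw [hle i (by omega), hle _ (le_max_left _ _)]

variable {L : ℕ → Type u} [∀ q, Lattice (L q)] [∀ q, BoundedOrder (L q)] [∀ q, IsModularLattice (L q)]

/-- an operator of degree one -/
structure Op (L : ℕ → Type u) [∀ q, Lattice (L q)] [∀ q, BoundedOrder (L q)] where
  /-- image -/
  push : ∀ q, L q → L (q + 1)
  /-- preimage -/
  pull : ∀ q, L (q + 1) → L q
  gc : ∀ q, GaloisConnection (push q) (pull q)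
  push_pull : ∀ q b, push q (pull q b) = b ⊓ push q ⊤

/-- a family stable under the operators -/
def Stable (ops : List (Op L)) (N : ∀ q, L q) : Prop :=
  ∀ o ∈ ops, ∀ q, o.push q (N q) ≤ N (q + 1)

/-- sums of the images of everything -/
def imSup (ops : List (Op L)) (q : ℕ) : L (q + 1) :=
  (ops.map fun o => o.push q ⊤).foldr (· ⊔ ·) ⊥

/-- the operators commute -/
def Comm (ops : List (Op L)) : Prop :=
  ∀ o ∈ ops, ∀ o' ∈ ops, ∀ q x, o.push (q + 1) (o'.push q x) = o'.push (q + 1) (o.push q x)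

/-- the image of the operator, with nothing in degree zero -/
def bot (t : Op L) : ∀ q, L q
  | 0 => ⊥
  | q + 1 => t.push q ⊤

/-- preimages of a family under the operator -/
def deriv (t : Op L) (N : ∀ q, L q) : ∀ q, L q := fun q => t.pull q (N (q + 1))

theorem deriv_mono (t : Op L) {N N' : ∀ q, L q} (h : N ≤ N') : deriv t N ≤ deriv t N' :=
  fun q => (t.gc q).monotone_u (h (q + 1))

theorem iterate_deriv_mono (t : Op L) (k : ℕ) {N N' : ∀ q, L q} (h : N ≤ N') :
    (deriv t)^[k] N ≤ (deriv t)^[k] N' := by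
  induction k generalizing N N' with
  | zero => exact h
  | succ k ih => exact ih (deriv_mono t h)

theorem le_of_iterate (t : Op L) (q : ℕ) : ∀ {N N' : ∀ q, L q}, N ≤ N' →
    (∀ k q, (deriv t)^[k] N' q ≤ (deriv t)^[k] N q ⊔ bot t q) →
    (∀ q, t.push q (N q) ≤ N (q + 1)) → N' q ≤ N q := by
  induction q with
  | zero =>
    intro N N' _ h _
    exact (h 0 0).trans (sup_le le_rfl bot_le)
  | succ q ih =>
    intro N N' hle h hN
    have hd : deriv t N' q ≤ deriv t N q := ih (deriv_mono t hle) (fun k p => h (k + 1) p) fun p =>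
      ((t.gc p).l_u_le _).trans ((t.gc (p + 1)).le_u (hN (p + 1)))
    calc N' (q + 1) ≤ (N (q + 1) ⊔ t.push q ⊤) ⊓ N' (q + 1) := le_inf (h 0 (q + 1)) le_rfl
      _ = N (q + 1) ⊔ (t.push q ⊤ ⊓ N' (q + 1)) := sup_inf_assoc_of_le _ (hle (q + 1))
      _ ≤ N (q + 1) := sup_le le_rfl (by
        rw [inf_comm, ← t.push_pull]
        exact ((t.gc q).monotone_l hd).trans ((t.gc q).l_u_le _))

instance (t : Op L) (q : ℕ) : Fact (bot t q ≤ ⊤) := ⟨le_top⟩

noncomputable instance (t : Op L) (q : ℕ) : BoundedOrder (Ici (bot t q)) where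
  top := ⟨⊤, mem_Ici.2 le_top⟩
  le_top x := show (x : L q) ≤ ⊤ from le_top
  bot := ⟨bot t q, mem_Ici.2 le_rfl⟩
  bot_le x := x.2

/-- an operator modulo the image of `t` -/
noncomputable def Op.modBy (t o : Op L) (hc : ∀ q x, o.push (q + 1) (t.push q x) = t.push (q + 1) (o.push q x)) :
    Op (fun q => Ici (bot t q)) where
  push q x := ⟨o.push q x ⊔ bot t (q + 1), mem_Ici.2 le_sup_right⟩
  pull q y := ⟨o.pull q y, mem_Ici.2 ((o.gc q).le_u (by
    refine le_trans ?_ y.2
    match q with
    | 0 => exact ((o.gc 0).l_bot).le.trans bot_le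
    | q + 1 =>
      change o.push (q + 1) (t.push q ⊤) ≤ t.push (q + 1) ⊤
      rw [hc]
      exact (t.gc (q + 1)).monotone_l le_top))⟩
  gc q x y := by
    change o.push q x ⊔ bot t (q + 1) ≤ y ↔ (x : L q) ≤ o.pull q y
    rw [sup_le_iff, o.gc q]
    exact ⟨fun h => h.1, fun h => ⟨h, y.2⟩⟩
  push_pull q y := Subtype.ext (by
    change o.push q (o.pull q y) ⊔ bot t (q + 1) = (y : L (q + 1)) ⊓ (o.push q ⊤ ⊔ bot t (q + 1))
    rw [o.push_pull]
    exact inf_sup_assoc_of_le _ y.2)

theorem imSup_le_iff (ops : List (Op L)) (q : ℕ) (z : L (q + 1)) :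
    imSup ops q ≤ z ↔ ∀ o ∈ ops, o.push q ⊤ ≤ z := by
  induction ops with
  | nil => simp [imSup]
  | cons a l ih =>
    have : imSup (a :: l) q = a.push q ⊤ ⊔ imSup l q := rfl
    rw [this, sup_le_iff, ih]
    simp

/-- **Hilbert's basis theorem for graded lattices** -/
theorem stationary (n : ℕ) : ∀ {L : ℕ → Type u} [∀ q, Lattice (L q)] [∀ q, BoundedOrder (L q)]
    [∀ q, IsModularLattice (L q)] (ops : List (Op L)), ops.length = n → Comm ops →
    (∀ f : ℕ → L 0, Monotone f → ∃ k, ∀ m, k ≤ m → f m = f k) → (∀ q, imSup ops q = ⊤) →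
    ∀ N : ℕ → ∀ q, L q, (∀ i, Stable ops (N i)) → Monotone N → ∃ i₀, ∀ i, i₀ ≤ i → N i = N i₀ := by
  induction n with
  | zero =>
    intro L _ _ _ ops hl _ h0 htop N _ hN
    obtain rfl := List.length_eq_zero_iff.1 hl
    obtain ⟨k, hk⟩ := h0 (fun i => N i 0) fun a b h => hN h 0
    refine ⟨k, fun i hi => funext fun q => ?_⟩
    match q with
    | 0 => exact hk i hi
    | q + 1 =>
      have : Subsingleton (L (q + 1)) := subsingleton_of_bot_eq_top (htop q)
      exact Subsingleton.elim _ _
  | succ n ih =>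
    intro L _ _ _ ops hl hcomm h0 htop N hst hN
    match ops, hl with
    | t :: os, hl =>
    have hc : ∀ o ∈ os, ∀ q x, o.push (q + 1) (t.push q x) = t.push (q + 1) (o.push q x) := fun o ho =>
      hcomm o (List.mem_cons_of_mem _ ho) t List.mem_cons_self
    let ops' : List (Op fun q => Ici (bot t q)) := os.pmap (fun o h => t.modBy o (hc o h)) fun o h => h
    have mem' : ∀ p ∈ ops', ∃ o, ∃ h : o ∈ os, t.modBy o (hc o h) = p := fun p hp => by
      simpa [ops'] using hp
    have key : ∀ (o : Op L) (_ : o ∈ os) (q : ℕ) (x : L q),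
        o.push q (x ⊔ bot t q) ⊔ bot t (q + 1) = o.push q x ⊔ bot t (q + 1) := fun o ho q x => by
      rw [(o.gc q).l_sup, sup_assoc]
      refine congrArg (o.push q x ⊔ ·) (sup_eq_right.2 ?_)
      match q with
      | 0 => exact ((o.gc 0).l_bot).le.trans bot_le
      | q + 1 =>
        change o.push (q + 1) (t.push q ⊤) ≤ t.push (q + 1) ⊤
        rw [hc o ho]
        exact (t.gc (q + 1)).monotone_l le_top
    have hcomm' : Comm ops' := by
      intro p hp p' hp' q x
      obtain ⟨o, ho, rfl⟩ := mem' p hp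
      obtain ⟨o', ho', rfl⟩ := mem' p' hp'
      refine Subtype.ext ?_
      change o.push (q + 1) (o'.push q x ⊔ bot t (q + 1)) ⊔ bot t (q + 1 + 1) =
        o'.push (q + 1) (o.push q x ⊔ bot t (q + 1)) ⊔ bot t (q + 1 + 1)
      rw [key o ho, key o' ho', hcomm o (List.mem_cons_of_mem _ ho) o' (List.mem_cons_of_mem _ ho')]
    have h0' : ∀ f : ℕ → Ici (bot t 0), Monotone f → ∃ k, ∀ m, k ≤ m → f m = f k := fun f hf =>
      let ⟨k, hk⟩ := h0 (fun i => (f i : L 0)) fun a b h => hf h
      ⟨k, fun m hm => Subtype.ext (hk m hm)⟩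
    have htop' : ∀ q, imSup ops' q = ⊤ := fun q => by
      refine top_le_iff.1 ?_
      have : imSup (t :: os) q ≤ ((imSup ops' q : Ici (bot t (q + 1))) : L (q + 1)) := by
        rw [imSup_le_iff]
        intro o ho
        rcases List.mem_cons.1 ho with rfl | ho
        · exact (imSup ops' q).2
        · have hmem : t.modBy o (hc o ho) ∈ ops' := List.mem_pmap.2 ⟨o, ho, rfl⟩
          have := (imSup_le_iff ops' q (imSup ops' q)).1 le_rfl _ hmem
          exact le_trans le_sup_left this
      rw [htop] at this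
      exact this
    have hD : ∀ (M : ∀ q, L q), Stable (t :: os) M → Stable (t :: os) (deriv t M) := fun M hM o ho q => by
      refine (t.gc (q + 1)).le_u ?_
      rw [hcomm t List.mem_cons_self o ho]
      exact ((o.gc (q + 1)).monotone_l ((t.gc q).l_u_le _)).trans (hM o ho (q + 1))
    have hstD : ∀ i k, Stable (t :: os) ((deriv t)^[k] (N i)) := fun i k => by
      induction k with
      | zero => exact hst i
      | succ k ih => rw [Function.iterate_succ_apply']; exact hD _ ih
    let a : ℕ → ℕ → ∀ q, Ici (bot t q) := fun i k q => ⟨(deriv t)^[k] (N i) q ⊔ bot t q, mem_Ici.2 le_sup_right⟩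
    have ha1 : ∀ k, Monotone fun i => a i k := fun k i j h q =>
      sup_le_sup_right (iterate_deriv_mono t k (hN h) q) _
    have ha2 : ∀ i, Monotone (a i) := fun i => monotone_nat_of_le_succ fun k q => by
      refine sup_le_sup_right ?_ _
      rw [Function.iterate_succ_apply']
      exact (t.gc q).le_u (hstD i k t List.mem_cons_self q)
    have hsta : ∀ i k, Stable ops' (a i k) := fun i k p hp q => by
      obtain ⟨o, ho, rfl⟩ := mem' p hp
      change o.push q ((deriv t)^[k] (N i) q ⊔ bot t q) ⊔ bot t (q + 1) ≤ _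
      rw [key o ho]
      exact sup_le_sup_right (hstD i k o (List.mem_cons_of_mem _ ho) q) _
    -- chains of stable families modulo `t` are stationary
    have hα : ∀ f : ℕ → {M : ∀ q, Ici (bot t q) // Stable ops' M}, Monotone f → ∃ k, ∀ m, k ≤ m → f m = f k :=
      fun f hf => by
        obtain ⟨k, hk⟩ := ih ops' (by simp [ops'] at hl ⊢; exact hl) hcomm' h0' htop' (fun i => (f i).1)
          (fun i => (f i).2) (fun x y h => hf h)
        exact ⟨k, fun m hm => Subtype.ext (hk m hm)⟩
    obtain ⟨i₀, hi₀⟩ := exists_uniform hα (fun i k => ⟨a i k, hsta i k⟩) (fun k i j h => ha1 k h) ha2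
    refine ⟨i₀, fun i hi => le_antisymm (fun q => le_of_iterate t q (hN hi) (fun k q => ?_)
      (hst i₀ t List.mem_cons_self)) (hN hi)⟩
    have e := congrArg (fun M : {M : ∀ q, Ici (bot t q) // Stable ops' M} => ((M.1 q : Ici (bot t q)) : L q)) (hi₀ i hi k)
    exact le_sup_left.trans e.le

end Groth.Agent.GradedChain
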