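import Mathlib.CategoryTheory.Abelian.Basic
import Mathlib.CategoryTheory.Abelian.Refinements
import Mathlib.CategoryTheory.Subobject.Lattice
import Mathlib.CategoryTheory.Subobject.Limits
import Mathlib.CategoryTheory.Subobject.NoetherianObject
import Mathlib.CategoryTheory.Subobject.ArtinianObject
import Mathlib.Algebra.Homology.ShortComplex.ShortExact
import Mathlib.Order.ModularLattice
import Mathlib.Tactic

/-! subobjects in an abelian category: elements, images, preimages, modularity -/

universe v u

open CategoryTheory CategoryTheory.Limits Opposite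

namespace Groth.Agent.SubLat

variable {C : Type u} [Category.{v} C] [Abelian C] {X Y Z : C}

theorem le_iff_factors {S T : Subobject X} :
    S ≤ T ↔ ∀ (B : C) (x : B ⟶ X), S.Factors x → T.Factors x :=
  ⟨fun h _ x hx => Subobject.factors_of_le x h hx, fun h => by
    have := h _ S.arrow (Subobject.factors_self S)
    exact Subobject.le_of_comm (T.factorThru _ this) (T.factorThru_arrow _ _)⟩

theorem factors_iff_comp_eq_zero {S : Subobject X} {B : C} (x : B ⟶ X) :
    S.Factors x ↔ x ≫ cokernel.π S.arrow = 0 :=
  ⟨fun h => by rw [← S.factorThru_arrow x h, Category.assoc, cokernel.condition, comp_zero],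
  fun h => by
    let hk := Abelian.monoIsKernelOfCokernel _ (cokernelIsCokernel S.arrow)
    exact (Subobject.factors_iff _ _).2 ⟨hk.lift (KernelFork.ofι x h), Fork.IsLimit.lift_ι hk⟩⟩

theorem factors_of_epi {S : Subobject X} {B B' : C} (π : B' ⟶ B) [Epi π] (x : B ⟶ X)
    (h : S.Factors (π ≫ x)) : S.Factors x := by
  rw [factors_iff_comp_eq_zero] at h ⊢
  rw [← cancel_epi π, ← Category.assoc, h, comp_zero]

theorem factors_neg {S : Subobject X} {B : C} {x : B ⟶ X} (h : S.Factors x) : S.Factors (-x) := by
  rw [factors_iff_comp_eq_zero] at h ⊢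
  simp [h]

theorem factors_sub {S : Subobject X} {B : C} {x y : B ⟶ X} (h : S.Factors x) (h' : S.Factors y) :
    S.Factors (x - y) := by
  rw [factors_iff_comp_eq_zero] at h h' ⊢
  simp [h, h']

theorem sup_factors_iff {S T : Subobject X} {B : C} (x : B ⟶ X) :
    (S ⊔ T).Factors x ↔ ∃ (B' : C) (π : B' ⟶ B) (_ : Epi π) (s t : B' ⟶ X),
      S.Factors s ∧ T.Factors t ∧ π ≫ x = s + t := by
  constructor
  · intro h
    let U := imageSubobject (biprod.desc S.arrow T.arrow)
    have hU : S ⊔ T ≤ U := sup_le
      (Subobject.le_of_comm (biprod.inl ≫ factorThruImageSubobject (biprod.desc S.arrow T.arrow)) (by simp [U]))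
      (Subobject.le_of_comm (biprod.inr ≫ factorThruImageSubobject (biprod.desc S.arrow T.arrow)) (by simp [U]))
    have h' := Subobject.factors_of_le x hU h
    obtain ⟨B', π, hπ, y, hy⟩ := surjective_up_to_refinements_of_epi
      (factorThruImageSubobject (biprod.desc S.arrow T.arrow)) (U.factorThru x h')
    refine ⟨B', π, hπ, y ≫ biprod.fst ≫ S.arrow, y ≫ biprod.snd ≫ T.arrow, ?_, ?_, ?_⟩
    · exact Subobject.factors_of_factors_right _ (Subobject.factors_of_factors_right _ (Subobject.factors_self S))
    · exact Subobject.factors_of_factors_right _ (Subobject.factors_of_factors_right _ (Subobject.factors_self T))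
    · rw [← U.factorThru_arrow x h', reassoc_of% hy, imageSubobject_arrow_comp, biprod.desc_eq, Preadditive.comp_add]
  · rintro ⟨B', π, _, s, t, hs, ht, h⟩
    refine factors_of_epi π x ?_
    rw [h]
    exact Subobject.factors_add _ _ (Subobject.factors_of_le _ le_sup_left hs) (Subobject.factors_of_le _ le_sup_right ht)

instance isModularLattice : IsModularLattice (Subobject X) :=
  ⟨fun {S} T {U} hSU => le_iff_factors.2 fun B x hx => by
    obtain ⟨h1, h2⟩ := (Subobject.inf_factors _).1 hx
    obtain ⟨B', π, _, s, t, hs, ht, e⟩ := (sup_factors_iff x).1 h1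
    refine (sup_factors_iff x).2 ⟨B', π, inferInstance, s, t, hs, (Subobject.inf_factors _).2 ⟨ht, ?_⟩, e⟩
    rw [show t = π ≫ x - s by rw [e, add_sub_cancel_left]]
    exact factors_sub (Subobject.factors_of_factors_right _ h2) (Subobject.factors_of_le _ hSU hs)⟩

/-- image of a subobject -/
noncomputable def push (f : X ⟶ Y) (S : Subobject X) : Subobject Y := imageSubobject (S.arrow ≫ f)

/-- preimage of a subobject -/
noncomputable def pull (f : X ⟶ Y) (T : Subobject Y) : Subobject X := kernelSubobject (f ≫ cokernel.π T.arrow)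

theorem pull_factors_iff {f : X ⟶ Y} {T : Subobject Y} {B : C} (x : B ⟶ X) :
    (pull f T).Factors x ↔ T.Factors (x ≫ f) := by
  rw [pull, kernelSubobject_factors_iff, factors_iff_comp_eq_zero, Category.assoc]

theorem push_factors_iff {f : X ⟶ Y} {S : Subobject X} {B : C} (y : B ⟶ Y) :
    (push f S).Factors y ↔ ∃ (B' : C) (π : B' ⟶ B) (_ : Epi π) (s : B' ⟶ X), S.Factors s ∧ π ≫ y = s ≫ f := by
  constructor
  · intro h
    obtain ⟨B', π, hπ, z, hz⟩ := surjective_up_to_refinements_of_epi (factorThruImageSubobject (S.arrow ≫ f))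
      ((imageSubobject (S.arrow ≫ f)).factorThru y h)
    refine ⟨B', π, hπ, z ≫ S.arrow, Subobject.factors_of_factors_right _ (Subobject.factors_self S), ?_⟩
    rw [← (imageSubobject (S.arrow ≫ f)).factorThru_arrow y h, reassoc_of% hz, imageSubobject_arrow_comp, Category.assoc]
  · rintro ⟨B', π, _, s, hs, e⟩
    refine factors_of_epi π y ?_
    rw [e, ← S.factorThru_arrow s hs, Category.assoc]
    exact imageSubobject_factors_comp_self _ _

theorem gc (f : X ⟶ Y) : GaloisConnection (push f) (pull f) := fun S T => by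
  constructor
  · exact fun h => le_iff_factors.2 fun B x hx => (pull_factors_iff x).2
      (Subobject.factors_of_le _ h ((push_factors_iff _).2 ⟨B, 𝟙 _, inferInstance, x, hx, Category.id_comp _⟩))
  · intro h
    refine le_iff_factors.2 fun B y hy => ?_
    obtain ⟨B', π, _, s, hs, e⟩ := (push_factors_iff y).1 hy
    refine factors_of_epi π y ?_
    rw [e]
    exact (pull_factors_iff s).1 (Subobject.factors_of_le _ h hs)

theorem push_pull (f : X ⟶ Y) (T : Subobject Y) : push f (pull f T) = T ⊓ push f ⊤ := by
  refine le_antisymm (le_inf ((gc f).l_u_le T) ((gc f).monotone_l le_top)) (le_iff_factors.2 fun B y hy => ?_)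
  obtain ⟨h1, h2⟩ := (Subobject.inf_factors _).1 hy
  obtain ⟨B', π, hπ, s, -, e⟩ := (push_factors_iff y).1 h2
  refine (push_factors_iff y).2 ⟨B', π, hπ, s, (pull_factors_iff s).2 ?_, e⟩
  rw [← e]
  exact Subobject.factors_of_factors_right _ h1

theorem push_comp (f : X ⟶ Y) (g : Y ⟶ Z) (S : Subobject X) : push g (push f S) = push (f ≫ g) S := by
  refine eq_of_forall_ge_iff fun T => ?_
  rw [gc g _ T, gc f _ _, gc (f ≫ g) _ T]
  have : pull f (pull g T) = pull (f ≫ g) T := le_antisymm
    (le_iff_factors.2 fun B x hx => by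
      rw [pull_factors_iff] at hx ⊢
      rw [pull_factors_iff, Category.assoc] at hx
      exact hx)
    (le_iff_factors.2 fun B x hx => by
      rw [pull_factors_iff] at hx
      rw [pull_factors_iff, pull_factors_iff, Category.assoc]
      exact hx)
  rw [this]

theorem push_top_of_epi (f : X ⟶ Y) [Epi f] : push f ⊤ = ⊤ := by
  refine top_le_iff.1 (le_iff_factors.2 fun B y _ => ?_)
  obtain ⟨B', π, hπ, s, e⟩ := surjective_up_to_refinements_of_epi f y
  exact (push_factors_iff y).2 ⟨B', π, hπ, s, Subobject.top_factors s, e⟩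

theorem push_pull_of_epi (f : X ⟶ Y) [Epi f] (T : Subobject Y) : push f (pull f T) = T := by
  rw [push_pull, push_top_of_epi, inf_top_eq]

theorem isNoetherianObject_of_epi (e : X ⟶ Y) [Epi e] [IsNoetherianObject X] : IsNoetherianObject Y := by
  rw [isNoetherianObject_iff_monotone_chain_condition]
  intro f
  obtain ⟨n, hn⟩ := monotone_chain_condition_of_isNoetherianObject
    ⟨fun i => pull e (f i), (gc e).monotone_u.comp f.monotone⟩
  exact ⟨n, fun m hm => by rw [← push_pull_of_epi e (f n), ← push_pull_of_epi e (f m)]; exact congrArg _ (hn m hm)⟩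

theorem isArtinianObject_of_epi (e : X ⟶ Y) [Epi e] [IsArtinianObject X] : IsArtinianObject Y := by
  rw [isArtinianObject_iff_antitone_chain_condition]
  intro f
  obtain ⟨n, hn⟩ := antitone_chain_condition_of_isArtinianObject
    ⟨fun i => pull e (f i), fun a b h => (gc e).monotone_u (f.monotone h)⟩
  exact ⟨n, fun m hm => by
    have := hn m hm
    rw [← push_pull_of_epi e (f n), ← push_pull_of_epi e (f m)]
    exact congrArg (push e) this⟩

theorem eq_of_le_of_shortExact {S : ShortComplex C} (hS : S.ShortExact) {N N' : Subobject S.X₂} (h : N ≤ N')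
    (h1 : pull S.f N' ≤ pull S.f N) (h2 : push S.g N' ≤ push S.g N) : N = N' := by
  have := hS.mono_f
  refine le_antisymm h (le_iff_factors.2 fun B x hx => ?_)
  obtain ⟨B', π, _, s, hs, e⟩ := (push_factors_iff _).1
    (Subobject.factors_of_le _ h2 ((push_factors_iff (x ≫ S.g)).2 ⟨B, 𝟙 B, inferInstance, x, hx, Category.id_comp _⟩))
  have hd : (π ≫ x - s) ≫ S.g = 0 := by rw [Preadditive.sub_comp, Category.assoc, e, sub_self]
  have hN' : N'.Factors (π ≫ x - s) :=
    factors_sub (Subobject.factors_of_factors_right _ hx) (Subobject.factors_of_le _ h hs)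
  have hw : (pull S.f N').Factors (hS.exact.lift _ hd) := by
    rw [pull_factors_iff, hS.exact.lift_f]
    exact hN'
  have := (pull_factors_iff _).1 (Subobject.factors_of_le _ h1 hw)
  rw [hS.exact.lift_f] at this
  refine factors_of_epi π x ?_
  have := Subobject.factors_add _ _ this hs
  rwa [sub_add_cancel] at this

theorem isNoetherianObject_of_shortExact {S : ShortComplex C} (hS : S.ShortExact) [IsNoetherianObject S.X₁]
    [IsNoetherianObject S.X₃] : IsNoetherianObject S.X₂ := by
  rw [isNoetherianObject_iff_monotone_chain_condition]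
  intro f
  obtain ⟨n1, h1⟩ := monotone_chain_condition_of_isNoetherianObject
    ⟨fun i => pull S.f (f i), (gc S.f).monotone_u.comp f.monotone⟩
  obtain ⟨n3, h3⟩ := monotone_chain_condition_of_isNoetherianObject
    ⟨fun i => push S.g (f i), (gc S.g).monotone_l.comp f.monotone⟩
  exact ⟨max n1 n3, fun m hm => eq_of_le_of_shortExact hS (f.monotone hm)
    (le_of_eq ((h1 m (by omega)).symm.trans (h1 _ (le_max_left _ _))))
    (le_of_eq ((h3 m (by omega)).symm.trans (h3 _ (le_max_right _ _))))⟩

theorem isArtinianObject_of_shortExact {S : ShortComplex C} (hS : S.ShortExact) [IsArtinianObject S.X₁]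
    [IsArtinianObject S.X₃] : IsArtinianObject S.X₂ := by
  rw [isArtinianObject_iff_antitone_chain_condition]
  intro f
  obtain ⟨n1, h1⟩ := antitone_chain_condition_of_isArtinianObject
    ⟨fun i => pull S.f (f i), fun a b h => (gc S.f).monotone_u (f.monotone h)⟩
  obtain ⟨n3, h3⟩ := antitone_chain_condition_of_isArtinianObject
    ⟨fun i => push S.g (f i), fun a b h => (gc S.g).monotone_l (f.monotone h)⟩
  refine ⟨max n1 n3, fun m hm => ?_⟩
  exact (eq_of_le_of_shortExact (N := (f m : Subobject S.X₂)) (N' := (f (max n1 n3) : Subobject S.X₂)) hS (f.monotone hm)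
    (le_of_eq ((h1 (max n1 n3) (le_max_left _ _)).symm.trans (h1 m (by omega))))
    (le_of_eq ((h3 (max n1 n3) (le_max_right _ _)).symm.trans (h3 m (by omega))))).symm

theorem isNoetherianObject_biprod [IsNoetherianObject X] [IsNoetherianObject Y] : IsNoetherianObject (X ⊞ Y) := by
  let S := ShortComplex.mk (biprod.inl : X ⟶ X ⊞ Y) biprod.snd (by simp)
  have h : S.ShortExact := (ShortComplex.Splitting.ofHasBinaryBiproduct X Y).shortExact
  exact isNoetherianObject_of_shortExact h

theorem isArtinianObject_biprod [IsArtinianObject X] [IsArtinianObject Y] : IsArtinianObject (X ⊞ Y) := by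
  let S := ShortComplex.mk (biprod.inl : X ⟶ X ⊞ Y) biprod.snd (by simp)
  have h : S.ShortExact := (ShortComplex.Splitting.ofHasBinaryBiproduct X Y).shortExact
  exact isArtinianObject_of_shortExact h

end Groth.Agent.SubLat
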