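import Groth.Agent.ARLib.Adic
import Groth.Agent.ARLib.SubobjLattice
import Groth.Agent.ARLib.GradedChain
import Mathlib.RingTheory.Noetherian.Defs

/-! multiplication operators on an adic system -/

universe w v u

open CategoryTheory CategoryTheory.Limits Opposite ARSys

namespace Groth.Agent.ARLib

set_option backward.isDefEq.respectTransparency.types false

variable {C : Type u} [Category.{v} C] [Abelian C] {A : Type w} [CommRing A] [Linear A C] {J : Ideal A} {X : PS C}

theorem exists_mul (hX : IsAdic J X) {a : A} (ha : a ∈ J) (q : ℕ) :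
    ∃ μ : X.obj (op q) ⟶ X.obj (op (q + 1)), tr X (Nat.le_succ q) ≫ μ = a • 𝟙 _ :=
  ((hX.2 q (q + 1) (Nat.le_succ q)).2 _ (a • 𝟙 _) (fun b hb => by
    rw [smul_smul]
    exact hX.1 (q + 1) (b * a) (by rw [pow_succ]; exact Ideal.mul_mem_mul hb ha))).exists

/-- multiplication by `a ∈ J`, from `X_q` to `X_{q+1}` -/
noncomputable def mul (hX : IsAdic J X) {a : A} (ha : a ∈ J) (q : ℕ) : X.obj (op q) ⟶ X.obj (op (q + 1)) :=
  (exists_mul hX ha q).choose

@[reassoc]
theorem tr_mul (hX : IsAdic J X) {a : A} (ha : a ∈ J) (q : ℕ) :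
    tr X (Nat.le_succ q) ≫ mul hX ha q = a • 𝟙 _ :=
  (exists_mul hX ha q).choose_spec

theorem mul_tr (hX : IsAdic J X) {a : A} (ha : a ∈ J) (q : ℕ) :
    mul hX ha q ≫ tr X (Nat.le_succ q) = a • 𝟙 _ := by
  have := IsQuot.epi (hX.2 q (q + 1) (Nat.le_succ q))
  rw [← cancel_epi (tr X (Nat.le_succ q)), tr_mul_assoc, Linear.smul_comp, Linear.comp_smul, Category.id_comp,
    Category.comp_id]

theorem mul_comm' (hX : IsAdic J X) {a b : A} (ha : a ∈ J) (hb : b ∈ J) (q : ℕ) :
    mul hX ha q ≫ mul hX hb (q + 1) = mul hX hb q ≫ mul hX ha (q + 1) := by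
  have := IsQuot.epi (hX.2 q (q + 1) (Nat.le_succ q))
  have := IsQuot.epi (hX.2 (q + 1) (q + 1 + 1) (Nat.le_succ _))
  rw [← cancel_epi (tr X (Nat.le_succ q)), ← cancel_epi (tr X (Nat.le_succ (q + 1))), tr_mul_assoc, tr_mul_assoc,
    Linear.smul_comp, Linear.smul_comp, Category.id_comp, Category.id_comp, Linear.comp_smul, Linear.comp_smul,
    tr_mul, tr_mul, smul_smul, smul_smul, mul_comm]

theorem Fsub_diag_factors_iff (X : PS C) (q : ℕ) {B : C} (x : B ⟶ X.obj (op (q + 1))) :
    (Fsub X (q + 1) (q + 1)).Factors x ↔ x ≫ tr X (Nat.le_succ q) = 0 := by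
  rw [show Fsub X (q + 1) (q + 1) = kernelSubobject (tr X (Nat.le_succ q)) from dif_pos _,
    kernelSubobject_factors_iff]

theorem smul_id_factors (hX : IsAdic J X) {c : A} (q : ℕ) (hc : c ∈ J ^ q) :
    (Fsub X q q).Factors (c • 𝟙 (X.obj (op q))) := by
  match q with
  | 0 => exact Subobject.top_factors _
  | q + 1 =>
    rw [Fsub_diag_factors_iff, Linear.smul_comp, Category.id_comp]
    exact homKilledBy_app hX.1 _ c hc

theorem mul_push_le (hX : IsAdic J X) {a : A} (ha : a ∈ J) (q : ℕ) :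
    SubLat.push (mul hX ha q) (Fsub X q q) ≤ Fsub X (q + 1) (q + 1) := by
  refine SubLat.le_iff_factors.2 fun B y hy => ?_
  obtain ⟨B', π, _, s, hs, e⟩ := (SubLat.push_factors_iff y).1 hy
  rw [Fsub_diag_factors_iff, ← cancel_epi π, ← Category.assoc, e, Category.assoc, mul_tr, Linear.comp_smul,
    Category.comp_id, comp_zero]
  match q with
  | 0 => exact homKilledBy_app hX.1 s a (by simpa using ha)
  | q + 1 =>
    have h0 := (Fsub_diag_factors_iff X q s).1 hs
    have hk : (a • 𝟙 (X.obj (op (q + 1)))) = tr X (Nat.le_succ q) ≫ mul hX ha q := (tr_mul hX ha q).symm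
    have := congrArg (s ≫ ·) hk
    simp only [Linear.comp_smul, Category.comp_id] at this
    rw [this, reassoc_of% h0, zero_comp]

theorem Fsub_succ_le_sup (hX : IsAdic J X) {l : List A} (hl : ∀ a ∈ l, a ∈ J)
    (hspan : J ≤ Ideal.span {x | x ∈ l}) (q : ℕ) (S : Subobject (X.obj (op (q + 1))))
    (hS : ∀ (a : A) (h : a ∈ l), SubLat.push (mul hX (hl a h) q) (Fsub X q q) ≤ S) :
    Fsub X (q + 1) (q + 1) ≤ S := by
  have key : ∀ c ∈ J ^ q, ∀ a ∈ J, (c * a) • cokernel.π S.arrow = 0 := by
    intro c hc a ha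
    have hmem := hspan ha
    clear ha
    induction hmem using Submodule.span_induction generalizing c with
    | mem x hx =>
      have h1 : S.Factors ((c • 𝟙 (X.obj (op q))) ≫ mul hX (hl x hx) q) :=
        Subobject.factors_of_le _ (hS x hx) ((SubLat.push_factors_iff _).2
          ⟨_, 𝟙 _, inferInstance, _, smul_id_factors hX q hc, Category.id_comp _⟩)
      rw [SubLat.factors_iff_comp_eq_zero] at h1
      have := congrArg (tr X (Nat.le_succ q) ≫ ·) h1
      simpa [Linear.smul_comp, Linear.comp_smul, tr_mul_assoc, smul_smul] using this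
    | zero => rw [mul_zero, zero_smul]
    | add x y _ _ hx hy => rw [mul_add, add_smul, hx c hc, hy c hc, add_zero]
    | smul r x _ hx =>
      rw [smul_eq_mul, ← mul_assoc, mul_comm c r]
      exact hx (r * c) (Ideal.mul_mem_left _ r hc)
  have hkill : HomKilledBy (J ^ (q + 1)) (cokernel.π S.arrow) := fun b hb => by
    rw [pow_succ] at hb
    exact Submodule.mul_induction_on hb key fun x y hx hy => by rw [add_smul, hx, hy, add_zero]
  obtain ⟨θ, hθ, -⟩ := (hX.2 q (q + 1) (Nat.le_succ q)).2 _ _ hkill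
  refine SubLat.le_iff_factors.2 fun B x hx => ?_
  rw [SubLat.factors_iff_comp_eq_zero, ← hθ, reassoc_of% (Fsub_diag_factors_iff X q x).1 hx, zero_comp]

theorem exists_gens [IsNoetherianRing A] (J : Ideal A) :
    ∃ l : List A, (∀ a ∈ l, a ∈ J) ∧ J ≤ Ideal.span {x | x ∈ l} := by
  obtain ⟨s, hs⟩ := IsNoetherian.noetherian J
  refine ⟨s.toList, fun a ha => hs ▸ Submodule.subset_span (Finset.mem_toList.1 ha), ?_⟩
  simpa using le_of_eq hs.symm

theorem prop_Fsub (P : C → Prop) (hX : IsAdic J X) [IsNoetherianRing A]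
    (hepi : ∀ {U V : C} (e : U ⟶ V) [Epi e], P U → P V) (hbiprod : ∀ U V : C, P U → P V → P (U ⊞ V))
    (hzero : ∀ U : C, IsZero U → P U) (h0 : P (X.obj (op 0))) : ∀ q, P (Fsub X q q : C) := by
  intro q
  induction q with
  | zero =>
    have e : 𝟙 (X.obj (op 0)) = (⊤ : Subobject (X.obj (op 0))).factorThru (𝟙 _) (Subobject.top_factors _) ≫
        (⊤ : Subobject (X.obj (op 0))).arrow := (Subobject.factorThru_arrow _ _ _).symm
    have : Epi ((⊤ : Subobject (X.obj (op 0))).factorThru (𝟙 _) (Subobject.top_factors _)) :=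
      ⟨fun {Z} g k h => by
        have h1 : (⊤ : Subobject (X.obj (op 0))).arrow ≫ (⊤ : Subobject (X.obj (op 0))).factorThru (𝟙 _) (Subobject.top_factors _) = 𝟙 _ := by
          rw [← cancel_mono (⊤ : Subobject (X.obj (op 0))).arrow, Category.assoc, ← e, Category.comp_id, Category.id_comp]
        have := congrArg ((⊤ : Subobject (X.obj (op 0))).arrow ≫ ·) h
        simpa [reassoc_of% h1] using this⟩
    exact @hepi _ _ ((⊤ : Subobject (X.obj (op 0))).factorThru (𝟙 _) (Subobject.top_factors _)) this h0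
  | succ q ih =>
    obtain ⟨l, hl, hspan⟩ := exists_gens J
    have himg : ∀ (a : A) (h : a ∈ l), P (SubLat.push (mul hX (hl a h) q) (Fsub X q q) : C) := fun a h =>
      have he : Epi (factorThruImageSubobject ((Fsub X q q).arrow ≫ mul hX (hl a h) q)) := by
        unfold factorThruImageSubobject
        infer_instance
      @hepi _ _ (factorThruImageSubobject ((Fsub X q q).arrow ≫ mul hX (hl a h) q)) he ih
    have sup : ∀ S T : Subobject (X.obj (op (q + 1))), P (S : C) → P (T : C) → P ((S ⊔ T : Subobject _) : C) := by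
      intro S T hS hT
      let f : (S : C) ⊞ (T : C) ⟶ ((S ⊔ T : Subobject _) : C) :=
        biprod.desc (Subobject.ofLE _ _ le_sup_left) (Subobject.ofLE _ _ le_sup_right)
      have : Epi f := (epi_iff_surjective_up_to_refinements f).2 fun {B} y => by
        have hy : (S ⊔ T).Factors (y ≫ (S ⊔ T).arrow) :=
          Subobject.factors_of_factors_right _ (Subobject.factors_self _)
        obtain ⟨B', π, hπ, s, t, hs, ht, e⟩ := (SubLat.sup_factors_iff _).1 hy
        refine ⟨B', π, hπ, biprod.lift (S.factorThru s hs) (T.factorThru t ht), ?_⟩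
        rw [← cancel_mono (S ⊔ T).arrow]
        simp [f, biprod.lift_desc, e]
      exact hepi f (hbiprod _ _ hS hT)
    let imgs := l.pmap (fun a h => SubLat.push (mul hX (hl a h) q) (Fsub X q q)) fun a h => h
    have hfold : ∀ (m : List (Subobject (X.obj (op (q + 1))))), (∀ S ∈ m, P (S : C)) →
        P ((m.foldr (· ⊔ ·) ⊥ : Subobject _) : C) := fun m hm => by
      induction m with
      | nil => exact hzero _ ((isZero_zero C).of_iso Subobject.botCoeIsoZero)
      | cons S m ih => exact sup _ _ (hm S List.mem_cons_self) (ih fun T hT => hm T (List.mem_cons_of_mem _ hT))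
    have hle : ∀ (m : List (Subobject (X.obj (op (q + 1))))) (S), S ∈ m → S ≤ m.foldr (· ⊔ ·) ⊥ := fun m S hS => by
      induction m with
      | nil => simp at hS
      | cons T m ih =>
        rcases List.mem_cons.1 hS with rfl | h
        · exact le_sup_left
        · exact (ih h).trans le_sup_right
    have hge : ∀ (m : List (Subobject (X.obj (op (q + 1))))) (U), (∀ S ∈ m, S ≤ U) → m.foldr (· ⊔ ·) ⊥ ≤ U := fun m U hm => by
      induction m with
      | nil => exact bot_le
      | cons T m ih => exact sup_le (hm T List.mem_cons_self) (ih fun S hS => hm S (List.mem_cons_of_mem _ hS))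
    have e : Fsub X (q + 1) (q + 1) = imgs.foldr (· ⊔ ·) ⊥ := le_antisymm
      (Fsub_succ_le_sup hX hl hspan q _ fun a h => hle _ _ (List.mem_pmap.2 ⟨a, h, rfl⟩))
      (hge _ _ fun S hS => by
        obtain ⟨a, h, rfl⟩ := List.mem_pmap.1 hS
        exact mul_push_le hX (hl a h) q)
    rw [e]
    exact hfold _ fun S hS => by
      obtain ⟨a, h, rfl⟩ := List.mem_pmap.1 hS
      exact himg a h

theorem Fsub_diag_shortExact (hX : IsAdic J X) (q : ℕ) :
    (ShortComplex.mk (Fsub X (q + 1) (q + 1)).arrow (tr X (Nat.le_succ q))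
      ((Fsub_diag_factors_iff X q _).1 (Subobject.factors_self _))).ShortExact := by
  have : Epi (tr X (Nat.le_succ q)) := IsQuot.epi (hX.2 q (q + 1) (Nat.le_succ q))
  refine { exact := ?_ }
  rw [ShortComplex.exact_iff_exact_up_to_refinements]
  intro B x hx
  exact ⟨B, 𝟙 B, inferInstance, (Fsub X (q + 1) (q + 1)).factorThru x ((Fsub_diag_factors_iff X q x).2 hx), by simp⟩

theorem isNoetherianObject_of_isAdic (hX : IsAdic J X) [IsNoetherianRing A] (h0 : IsNoetherianObject (X.obj (op 0)))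
    (n : ℕ) : IsNoetherianObject (X.obj (op n)) := by
  induction n with
  | zero => exact h0
  | succ n ih =>
    have : IsNoetherianObject (Fsub X (n + 1) (n + 1) : C) :=
      prop_Fsub (fun U => IsNoetherianObject U) hX (fun e _ h => @SubLat.isNoetherianObject_of_epi _ _ _ _ _ e _ h)
        (fun U V hU hV => @SubLat.isNoetherianObject_biprod _ _ _ U V hU hV) (fun U => isNoetherianObject_of_isZero) h0 (n + 1)
    exact @SubLat.isNoetherianObject_of_shortExact _ _ _ _ (Fsub_diag_shortExact hX n) this ih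

theorem isArtinianObject_of_isAdic (hX : IsAdic J X) [IsNoetherianRing A] (h0 : IsArtinianObject (X.obj (op 0)))
    (n : ℕ) : IsArtinianObject (X.obj (op n)) := by
  induction n with
  | zero => exact h0
  | succ n ih =>
    have : IsArtinianObject (Fsub X (n + 1) (n + 1) : C) :=
      prop_Fsub (fun U => IsArtinianObject U) hX (fun e _ h => @SubLat.isArtinianObject_of_epi _ _ _ _ _ e _ h)
        (fun U V hU hV => @SubLat.isArtinianObject_biprod _ _ _ U V hU hV) (fun U => isArtinianObject_of_isZero) h0 (n + 1)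
    exact @SubLat.isArtinianObject_of_shortExact _ _ _ _ (Fsub_diag_shortExact hX n) this ih

open GradedChain in
/-- multiplication as an operator on the lattices below `F^q(X_q)` -/
noncomputable def opOf (hX : IsAdic J X) {a : A} (ha : a ∈ J) :
    Op (fun q => Set.Iic (Fsub X q q)) where
  push q S := ⟨SubLat.push (mul hX ha q) S, ((SubLat.gc _).monotone_l S.2).trans (mul_push_le hX ha q)⟩
  pull q T := ⟨SubLat.pull (mul hX ha q) T ⊓ Fsub X q q, Set.mem_Iic.2 inf_le_right⟩
  gc q S T := by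
    change SubLat.push (mul hX ha q) S ≤ T ↔ (S : Subobject _) ≤ SubLat.pull (mul hX ha q) T ⊓ Fsub X q q
    rw [SubLat.gc, le_inf_iff]
    exact ⟨fun h => ⟨h, S.2⟩, fun h => h.1⟩
  push_pull q T := Subtype.ext (by
    change SubLat.push (mul hX ha q) (SubLat.pull (mul hX ha q) T ⊓ Fsub X q q) =
      (T : Subobject _) ⊓ SubLat.push (mul hX ha q) (Fsub X q q)
    refine le_antisymm (le_inf (((SubLat.gc _).monotone_l inf_le_left).trans ((SubLat.gc _).l_u_le _))
      ((SubLat.gc _).monotone_l inf_le_right)) (SubLat.le_iff_factors.2 fun B y hy => ?_)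
    obtain ⟨h1, h2⟩ := (Subobject.inf_factors _).1 hy
    obtain ⟨B', π, hπ, s, hs, e⟩ := (SubLat.push_factors_iff y).1 h2
    refine (SubLat.push_factors_iff y).2 ⟨B', π, hπ, s, (Subobject.inf_factors _).2 ⟨(SubLat.pull_factors_iff s).2 ?_, hs⟩, e⟩
    rw [← e]
    exact Subobject.factors_of_factors_right _ h1)

theorem isGrSub_push_le {M : (q : ℕ) → Subobject (X.obj (op q))} (hM : IsGrSub J X M) (hX : IsAdic J X) {a : A}
    (ha : a ∈ J) (q : ℕ) : SubLat.push (mul hX ha q) (M q) ≤ M (q + 1) := by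
  have main : ∀ (n : ℕ) (hn : n = 1 + q) (hqn : q ≤ n),
      imageSubobject (((Subobject.pullback (tr X hqn)).obj (M q)).arrow ≫ (a • 𝟙 (X.obj (op n)))) ≤ M n := by
    intro n hn hqn
    subst hn
    exact hM.2 1 q a (by simpa using ha)
  have h := main (q + 1) (by omega) (Nat.le_succ q)
  have := IsQuot.epi (hX.2 q (q + 1) (Nat.le_succ q))
  refine SubLat.le_iff_factors.2 fun B y hy => ?_
  obtain ⟨B', π, _, s, hs, e⟩ := (SubLat.push_factors_iff y).1 hy
  obtain ⟨B'', π', _, z, hz⟩ := surjective_up_to_refinements_of_epi (tr X (Nat.le_succ q)) s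
  have sq := Subobject.isPullback (tr X (Nat.le_succ q)) (M q)
  let l := sq.lift (π' ≫ (M q).factorThru s hs) z (by rw [Category.assoc, Subobject.factorThru_arrow, hz])
  refine SubLat.factors_of_epi (π' ≫ π) y (Subobject.factors_of_le _ h ?_)
  have e' : (π' ≫ π) ≫ y = l ≫ (((Subobject.pullback (tr X (Nat.le_succ q))).obj (M q)).arrow ≫
      (a • 𝟙 (X.obj (op (q + 1))))) := by
    rw [← Category.assoc l, sq.lift_snd, ← tr_mul hX ha q, ← reassoc_of% hz, Category.assoc, e]
  rw [e']
  exact imageSubobject_factors_comp_self _ _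

theorem stable_stationary [IsNoetherianRing A] (hX : IsAdicNoeth J X)
    (M : ℕ → (q : ℕ) → Subobject (X.obj (op q))) (hMF : ∀ i q, M i q ≤ Fsub X q q)
    (hM : ∀ i (a : A) (ha : a ∈ J) q, SubLat.push (mul hX.1 ha q) (M i q) ≤ M i (q + 1)) (hmono : Monotone M) :
    ∃ i₀ : ℕ, ∀ i : ℕ, i₀ ≤ i → M i = M i₀ := by
  obtain ⟨l, hl, hspan⟩ := exists_gens J
  let ops := l.pmap (fun a h => opOf hX.1 (hl a h)) fun a h => h
  have hcomm : GradedChain.Comm ops := by
    intro o ho o' ho' q x
    obtain ⟨a, ha, rfl⟩ := List.mem_pmap.1 ho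
    obtain ⟨b, hb, rfl⟩ := List.mem_pmap.1 ho'
    refine Subtype.ext ?_
    change SubLat.push (mul hX.1 (hl a ha) (q + 1)) (SubLat.push (mul hX.1 (hl b hb) q) x) =
      SubLat.push (mul hX.1 (hl b hb) (q + 1)) (SubLat.push (mul hX.1 (hl a ha) q) x)
    rw [SubLat.push_comp, SubLat.push_comp, mul_comm']
  have h0 : ∀ f : ℕ → Set.Iic (Fsub X 0 0), Monotone f → ∃ k, ∀ m, k ≤ m → f m = f k := fun f hf => by
    obtain ⟨k, hk⟩ := @monotone_chain_condition_of_isNoetherianObject _ _ _ (hX.2 0)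
      ⟨fun i => (f i : Subobject _), fun a b h => hf h⟩
    exact ⟨k, fun m hm => Subtype.ext (hk m hm).symm⟩
  have htop : ∀ q, GradedChain.imSup ops q = ⊤ := fun q => top_le_iff.1 (by
    change Fsub X (q + 1) (q + 1) ≤ ((GradedChain.imSup ops q : Set.Iic _) : Subobject _)
    exact Fsub_succ_le_sup hX.1 hl hspan q _ fun a h =>
      (GradedChain.imSup_le_iff ops q _).1 le_rfl _ (List.mem_pmap.2 ⟨a, h, rfl⟩))
  obtain ⟨i₀, hi₀⟩ := GradedChain.stationary _ ops rfl hcomm h0 htop
    (fun i q => ⟨M i q, hMF i q⟩) (fun i o ho q => by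
      obtain ⟨a, ha, rfl⟩ := List.mem_pmap.1 ho
      exact hM i a (hl a ha) q)
    (fun i j h q => hmono h q)
  exact ⟨i₀, fun i hi => funext fun q => congrArg Subtype.val (congrFun (hi₀ i hi) q)⟩

theorem isGrSub_stationary [IsNoetherianRing A] (hX : IsAdicNoeth J X)
    (M : ℕ → (q : ℕ) → Subobject (X.obj (op q))) (hM : ∀ i : ℕ, IsGrSub J X (M i)) (hmono : Monotone M) :
    ∃ i₀ : ℕ, ∀ i : ℕ, i₀ ≤ i → M i = M i₀ :=
  stable_stationary hX M (fun i => (hM i).1) (fun i _ ha q => isGrSub_push_le (hM i) hX.1 ha q) hmono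

end Groth.Agent.ARLib
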