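import Groth.Prelude.Def_ARSys
import Mathlib.CategoryTheory.Abelian.Refinements
import Mathlib.Algebra.Homology.ShortComplex.ShortExact
import Mathlib.CategoryTheory.Limits.FunctorCategory.EpiMono
import Mathlib.Tactic

/-! projective systems: transition maps, null systems, uniform Mittag-Leffler -/

universe v u

open CategoryTheory CategoryTheory.Limits Opposite ARSys

namespace Groth.Agent.ARLib

set_option backward.isDefEq.respectTransparency.types false

section general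

variable {C : Type u} [Category.{v} C]

@[reassoc (attr := simp)]
theorem tr_tr (X : PS C) {a b c : ℕ} (h1 : a ≤ b) (h2 : b ≤ c) : tr X h2 ≫ tr X h1 = tr X (h1.trans h2) := by
  simp only [tr, ← Functor.map_comp, ← op_comp, homOfLE_comp]

@[simp]
theorem tr_refl (X : PS C) {n : ℕ} (h : n ≤ n) : tr X h = 𝟙 _ := by
  simp [tr]

@[reassoc]
theorem tr_naturality {X Y : PS C} (u : X ⟶ Y) {n m : ℕ} (h : n ≤ m) :
    tr X h ≫ u.app (op n) = u.app (op m) ≫ tr Y h := u.naturality _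

theorem map_eq_tr (X : PS C) {a b : ℕ} (g : op b ⟶ op a) : X.map g = tr X (leOfHom g.unop) := rfl

theorem tr_shift (X : PS C) (r : ℕ) {n m : ℕ} (h : n ≤ m) :
    tr ((shift C r).obj X) h = tr X (Nat.add_le_add_right h r) := rfl

theorem shiftMap_eq (X : PS C) (r n : ℕ) : shiftMap X r n = tr X (Nat.le_add_right n r) := rfl

/-- a morphism of systems from components commuting with transition maps -/
def natMk {X Y : PS C} (f : ∀ n : ℕ, X.obj (op n) ⟶ Y.obj (op n))
    (h : ∀ (n m : ℕ) (hnm : n ≤ m), tr X hnm ≫ f n = f m ≫ tr Y hnm) : X ⟶ Y where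
  app n := f n.unop
  naturality := fun a b g => h b.unop a.unop (leOfHom g.unop)

@[simp]
theorem natMk_app {X Y : PS C} (f : ∀ n : ℕ, X.obj (op n) ⟶ Y.obj (op n))
    (h : ∀ (n m : ℕ) (hnm : n ≤ m), tr X hnm ≫ f n = f m ≫ tr Y hnm) (n : ℕ) :
    (natMk f h).app (op n) = f n := rfl

/-- a system from objects and transition maps -/
def systemMk (F : ℕ → C) (t : ∀ n m : ℕ, n ≤ m → (F m ⟶ F n)) (t_refl : ∀ n, t n n le_rfl = 𝟙 _)
    (t_comp : ∀ a b c (h1 : a ≤ b) (h2 : b ≤ c), t b c h2 ≫ t a b h1 = t a c (h1.trans h2)) : PS C where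
  obj n := F n.unop
  map {a b} g := t b.unop a.unop (leOfHom g.unop)
  map_id a := t_refl a.unop
  map_comp {a b c} g g' := (t_comp c.unop b.unop a.unop (leOfHom g'.unop) (leOfHom g.unop)).symm

theorem hom_ext {X Y : PS C} {f g : X ⟶ Y} (h : ∀ n, f.app (op n) = g.app (op n)) : f = g :=
  NatTrans.ext (funext fun n => h n.unop)

variable [HasZeroMorphisms C]

theorem tr_eq_zero_of_null {X : PS C} {r : ℕ} (h : ∀ n : ℕ, shiftMap X r n = 0) {n m : ℕ} (hnm : n ≤ m)
    (hr : n + r ≤ m) : tr X hnm = 0 := by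
  exact (tr_tr X (Nat.le_add_right n r) hr).symm.trans ((congrArg (tr X hr ≫ ·) (h n)).trans comp_zero)

theorem isARNull_iff (X : PS C) :
    IsARNull X ↔ ∃ r : ℕ, ∀ (n m : ℕ) (h : n ≤ m), n + r ≤ m → tr X h = 0 :=
  ⟨fun ⟨r, h⟩ => ⟨r, fun _ _ hnm => tr_eq_zero_of_null h hnm⟩, fun ⟨r, h⟩ => ⟨r, fun n => h _ _ _ le_rfl⟩⟩

end general

variable {C : Type u} [Category.{v} C] [Abelian C]

theorem shortExact_app {S : ShortComplex (PS C)} (hS : S.ShortExact) (n : ℕ) :
    (S.map ((evaluation ℕᵒᵖ C).obj (op n))).ShortExact :=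
  hS.map_of_exact _

theorem mono_app {S : ShortComplex (PS C)} (hS : S.ShortExact) (n : ℕ) : Mono (S.f.app (op n)) :=
  (shortExact_app hS n).mono_f

theorem epi_app {S : ShortComplex (PS C)} (hS : S.ShortExact) (n : ℕ) : Epi (S.g.app (op n)) :=
  (shortExact_app hS n).epi_g

@[reassoc (attr := simp)]
theorem comp_app_zero (S : ShortComplex (PS C)) (n : ℕ) : S.f.app (op n) ≫ S.g.app (op n) = 0 := by
  rw [← NatTrans.comp_app, S.zero]; rfl

theorem lift_app {S : ShortComplex (PS C)} (hS : S.ShortExact) {n : ℕ} {T : C} (x : T ⟶ S.X₂.obj (op n))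
    (hx : x ≫ S.g.app (op n) = 0) : ∃ y, y ≫ S.f.app (op n) = x :=
  have := (shortExact_app hS n).mono_f
  ⟨_, (shortExact_app hS n).exact.lift_f x hx⟩

theorem desc_app {S : ShortComplex (PS C)} (hS : S.ShortExact) {n : ℕ} {T : C} (x : S.X₂.obj (op n) ⟶ T)
    (hx : S.f.app (op n) ≫ x = 0) : ∃ y, S.g.app (op n) ≫ y = x :=
  have := (shortExact_app hS n).epi_g
  ⟨_, (shortExact_app hS n).exact.g_desc x hx⟩

theorem isARNull_X₂_iff {S : ShortComplex (PS C)} (hS : S.ShortExact) :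
    IsARNull S.X₂ ↔ IsARNull S.X₁ ∧ IsARNull S.X₃ := by
  constructor
  · rintro ⟨r, hr⟩
    refine ⟨(isARNull_iff _).2 ⟨r, fun n m h hm => ?_⟩, (isARNull_iff _).2 ⟨r, fun n m h hm => ?_⟩⟩
    · have := mono_app hS n
      rw [← cancel_mono (S.f.app (op n)), tr_naturality, tr_eq_zero_of_null hr h hm, comp_zero, zero_comp]
    · have := epi_app hS m
      rw [← cancel_epi (S.g.app (op m)), ← tr_naturality, tr_eq_zero_of_null hr h hm, zero_comp, comp_zero]
  · rintro ⟨⟨r1, h1⟩, ⟨r3, h3⟩⟩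
    refine (isARNull_iff _).2 ⟨r1 + r3, fun n m h hm => ?_⟩
    obtain ⟨y, hy⟩ := lift_app hS (tr S.X₂ (show n + r1 ≤ m by omega))
      (by rw [tr_naturality, tr_eq_zero_of_null h3 _ (by omega), comp_zero])
    rw [← tr_tr S.X₂ (Nat.le_add_right n r1) (show n + r1 ≤ m by omega), ← hy, Category.assoc, ← tr_naturality,
      tr_eq_zero_of_null h1 _ le_rfl, zero_comp, comp_zero]

/-- equal images, up to refinements -/
theorem imageSubobject_le_iff {X X' Y : C} (f : X ⟶ Y) (g : X' ⟶ Y) :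
    imageSubobject f ≤ imageSubobject g ↔ ∃ (T : C) (π : T ⟶ X) (_ : Epi π) (y : T ⟶ X'), π ≫ f = y ≫ g := by
  constructor
  · intro h
    obtain ⟨T, π, hπ, y, hy⟩ := surjective_up_to_refinements_of_epi (factorThruImageSubobject g)
      (factorThruImageSubobject f ≫ Subobject.ofLE _ _ h)
    refine ⟨T, π, hπ, y, ?_⟩
    have := congrArg (· ≫ (imageSubobject g).arrow) hy
    simpa using this
  · rintro ⟨T, π, _, y, hy⟩
    refine imageSubobject_le _ (Abelian.epiDesc π (y ≫ factorThruImageSubobject g) ?_) ?_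
    · rw [← cancel_mono (imageSubobject g).arrow]
      simp [← hy]
    · rw [← cancel_epi π]
      simp [Abelian.comp_epiDesc_assoc, hy]

theorem isMLAR_iff (X : PS C) : IsMLAR X ↔
    ∃ r : ℕ, ∀ (n a m : ℕ) (h1 : n + r ≤ a) (_ : a ≤ m), ∃ (T : C) (π : T ⟶ X.obj (op a)) (_ : Epi π)
      (y : T ⟶ X.obj (op m)), π ≫ tr X (show n ≤ a by omega) = y ≫ tr X (show n ≤ m by omega) := by
  constructor
  · rintro ⟨r, hr⟩
    refine ⟨r, fun n a m h1 h2 => ?_⟩
    obtain ⟨s, rfl⟩ := Nat.exists_eq_add_of_le (show n ≤ a by omega)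
    obtain ⟨t, rfl⟩ := Nat.exists_eq_add_of_le (show n ≤ m by omega)
    exact (imageSubobject_le_iff (shiftMap X s n) (shiftMap X t n)).1
      (le_of_eq ((hr s (by omega) n).trans (hr t (by omega) n).symm))
  · rintro ⟨r, hr⟩
    refine ⟨r, fun s hs n => le_antisymm ?_ ?_⟩
    · exact (imageSubobject_le_iff (shiftMap X s n) (shiftMap X r n)).2
        ⟨_, 𝟙 _, inferInstance, tr X (show n + r ≤ n + s by omega), (Category.id_comp _).trans (tr_tr X _ _).symm⟩
    · exact (imageSubobject_le_iff (shiftMap X r n) (shiftMap X s n)).2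
        (hr n (n + r) (n + s) le_rfl (by omega))

/-- image stability, on generalised elements -/
theorem exists_of_isMLAR {X : PS C} (hX : IsMLAR X) : ∃ r : ℕ, ∀ (n a m : ℕ) (_ : n + r ≤ a) (_ : a ≤ m)
    (hna : n ≤ a) (hnm : n ≤ m) {B : C} (x : B ⟶ X.obj (op a)),
      ∃ (T : C) (π : T ⟶ B) (_ : Epi π) (y : T ⟶ X.obj (op m)), π ≫ x ≫ tr X hna = y ≫ tr X hnm := by
  obtain ⟨r, hr⟩ := (isMLAR_iff X).1 hX
  refine ⟨r, fun n a m h1 h2 hna hnm B x => ?_⟩
  obtain ⟨T, π, _, y, hy⟩ := hr n a m h1 h2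
  obtain ⟨T', π', hπ', z, hz⟩ := surjective_up_to_refinements_of_epi π x
  exact ⟨T', π', hπ', z ≫ y, by rw [Category.assoc, ← hy, reassoc_of% hz]⟩

theorem isMLAR_X₃ {S : ShortComplex (PS C)} (hS : S.ShortExact) (h : IsMLAR S.X₂) : IsMLAR S.X₃ := by
  rw [isMLAR_iff] at h ⊢
  obtain ⟨r, hr⟩ := h
  refine ⟨r, fun n a m h1 h2 => ?_⟩
  obtain ⟨T, π, hπ, y, hy⟩ := hr n a m h1 h2
  have := epi_app hS a
  refine ⟨T, π ≫ S.g.app (op a), epi_comp _ _, y ≫ S.g.app (op m), ?_⟩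
  rw [Category.assoc, Category.assoc, ← tr_naturality, ← tr_naturality, reassoc_of% hy]

theorem isMLAR_X₂ {S : ShortComplex (PS C)} (hS : S.ShortExact) (hX : IsMLAR S.X₁) (hZ : IsMLAR S.X₃) :
    IsMLAR S.X₂ := by
  obtain ⟨r1, h1⟩ := exists_of_isMLAR hX
  obtain ⟨r3, h3⟩ := exists_of_isMLAR hZ
  refine (isMLAR_iff _).2 ⟨r1 + r3, fun n a m ha hm => ?_⟩
  obtain ⟨T, π, _, z, hz⟩ := h3 (n + r1) a m (by omega) hm (by omega) (by omega) (S.g.app (op a))
  have := epi_app hS m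
  obtain ⟨T', π', _, y, hy⟩ := surjective_up_to_refinements_of_epi (S.g.app (op m)) z
  obtain ⟨w, hw⟩ := lift_app hS (π' ≫ π ≫ tr S.X₂ (show n + r1 ≤ a by omega) - y ≫ tr S.X₂ (show n + r1 ≤ m by omega)) (by
    simp only [Preadditive.sub_comp, Category.assoc, tr_naturality]
    rw [hz, reassoc_of% hy, sub_self])
  obtain ⟨T'', π'', _, v, hv⟩ := h1 n (n + r1) m le_rfl (by omega) (by omega) (by omega) w
  refine ⟨T'', π'' ≫ π' ≫ π, inferInstance, π'' ≫ y + v ≫ S.f.app (op m), ?_⟩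
  have e := congrArg (fun t => π'' ≫ t ≫ tr S.X₂ (Nat.le_add_right n r1)) hw
  simp only [Category.assoc, Preadditive.sub_comp, Preadditive.comp_sub, tr_tr, ← tr_naturality] at e
  rw [reassoc_of% hv] at e
  simp only [Preadditive.add_comp, Category.assoc, ← tr_naturality]
  rw [e]
  abel

end Groth.Agent.ARLib
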