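import Groth.Agent.ARLib.Iso

/-! strict systems and uniform Mittag-Leffler -/

universe v u

open CategoryTheory CategoryTheory.Limits Opposite ARSys

namespace Groth.Agent.ARLib

set_option backward.isDefEq.respectTransparency.types false

variable {C : Type u} [Category.{v} C] [Abelian C] (X : PS C)

/-- `shiftMap`, with source `X_{n+r}` syntactically -/
abbrev sm (r n : ℕ) : X.obj (op (n + r)) ⟶ X.obj (op n) := tr X (Nat.le_add_right n r)

/-- the system of images of `X_{n+r} ⟶ X_n` -/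
noncomputable def imgSys (r : ℕ) : PS C :=
  systemMk (fun n => (imageSubobject (sm X r n) : C))
    (fun n m h => imageSubobjectMap (Arrow.homMk (u := tr X (Nat.add_le_add_right h r)) (v := tr X h)
      (show tr X (Nat.add_le_add_right h r) ≫ sm X r n = sm X r m ≫ tr X h from
        (tr_tr X _ _).trans (tr_tr X _ _).symm) : Arrow.mk (sm X r m) ⟶ Arrow.mk (sm X r n)))
    (fun n => by
      rw [← cancel_mono (imageSubobject (sm X r n)).arrow]
      simp)
    (fun a b c h1 h2 => by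
      rw [← cancel_mono (imageSubobject (sm X r a)).arrow]
      simp)

/-- the inclusion of the system of images -/
noncomputable def imgι (r : ℕ) : imgSys X r ⟶ X :=
  natMk (fun n => (imageSubobject (sm X r n)).arrow)
    (fun n m h => imageSubobjectMap_arrow _)

instance imgι_mono (r : ℕ) : Mono (imgι X r) :=
  (NatTrans.mono_iff_mono_app _).2 fun n => inferInstanceAs (Mono (imageSubobject (sm X r n.unop)).arrow)

/-- `X_{n+r}` maps onto its image -/
noncomputable def toImg (r n : ℕ) : X.obj (op (n + r)) ⟶ (imgSys X r).obj (op n) :=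
  factorThruImageSubobject (sm X r n)

instance (r n : ℕ) : Epi (toImg X r n) := inferInstanceAs (Epi (factorThruImageSubobject (sm X r n)))

@[reassoc (attr := simp)]
theorem toImg_ι (r n : ℕ) : toImg X r n ≫ (imgι X r).app (op n) = tr X (Nat.le_add_right n r) :=
  imageSubobject_arrow_comp _

theorem imgι_isARIso (r : ℕ) : IsARIso (imgι X r) :=
  isARIso_of_inv (r := r)
    { ψ := fun n m h => tr X h ≫ toImg X r n
      ψ_u := fun n m h => by rw [Category.assoc, toImg_ι, tr_tr]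
      u_ψ := fun n m h => by
        rw [← cancel_mono ((imgι X r).app (op n))]
        simp [tr_naturality]
      ψ_tr := fun n n' m h hn => by
        rw [← cancel_mono ((imgι X r).app (op n))]
        simp [tr_naturality]
      tr_ψ := fun n m m' h hm => tr_tr_assoc X _ _ _ }

variable {X}

theorem imgSys_strict {r : ℕ}
    (hr : ∀ s : ℕ, r ≤ s → ∀ n : ℕ, imageSubobject (shiftMap X s n) = imageSubobject (shiftMap X r n)) :
    IsStrict (imgSys X r) := by
  intro n m h
  obtain ⟨d, rfl⟩ := Nat.exists_eq_add_of_le h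
  refine (epi_iff_surjective_up_to_refinements _).2 fun {T} x => ?_
  obtain ⟨T1, π1, _, y, hy⟩ := surjective_up_to_refinements_of_epi (toImg X r n) x
  obtain ⟨T2, π2, _, z, hz⟩ := (imageSubobject_le_iff (sm X r n) (sm X (d + r) n)).1
    (le_of_eq (hr (d + r) (by omega) n).symm)
  obtain ⟨T3, π3, _, w, hw⟩ := surjective_up_to_refinements_of_epi π2 y
  refine ⟨T3, π3 ≫ π1, inferInstance,
    w ≫ z ≫ tr X (show n + d + r ≤ n + (d + r) by omega) ≫ toImg X r (n + d), ?_⟩
  rw [← cancel_mono ((imgι X r).app (op n))]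
  simp only [Category.assoc, tr_naturality, toImg_ι_assoc, tr_tr, tr_tr_assoc]
  rw [reassoc_of% hy, toImg_ι, reassoc_of% hw, hz]

variable (X)

theorem exists_strict_arIso (hX : IsMLAR X) : ∃ (Y : PS C) (u : Y ⟶ X), IsStrict Y ∧ IsARIso u ∧ Mono u := by
  obtain ⟨r, hr⟩ := hX
  exact ⟨imgSys X r, imgι X r, imgSys_strict hr, imgι_isARIso X r, inferInstance⟩

theorem image_eq_of_strict {Y : PS C} (u : Y ⟶ X) (hY : IsStrict Y) (hu : IsARIso u) :
    ∃ r : ℕ, ∀ s : ℕ, r ≤ s → ∀ n : ℕ, imageSubobject (sm X s n) = imageSubobject (u.app (op n)) := by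
  obtain ⟨r, ⟨I⟩⟩ := exists_inv hu
  refine ⟨r, fun s hs n => le_antisymm ?_ ?_⟩
  · exact (imageSubobject_le_iff (sm X s n) (u.app (op n))).2
      ⟨_, 𝟙 _, inferInstance, I.ψ n (n + s) (by omega), (Category.id_comp _).trans (I.ψ_u n (n + s) (by omega)).symm⟩
  · exact (imageSubobject_le_iff (u.app (op n)) (sm X s n)).2
      ⟨_, tr Y (Nat.le_add_right n s), hY _ _ _, u.app (op (n + s)), tr_naturality u _⟩

theorem isMLAR_of_strict {Y : PS C} (u : Y ⟶ X) (hY : IsStrict Y) (hu : IsARIso u) : IsMLAR X := by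
  obtain ⟨r, hr⟩ := image_eq_of_strict X u hY hu
  exact ⟨r, fun s hs n => (hr s hs n).trans (hr r le_rfl n).symm⟩

theorem isMLAR_iff_univImages : IsMLAR X ↔ (IsML X ∧ ∃ (X' : PS C) (ι : X' ⟶ X), Mono ι ∧
    (∀ n : ℕ, ∃ r₀ : ℕ, ∀ r : ℕ, r₀ ≤ r → imageSubobject (ι.app (op n)) = imageSubobject (sm X r n)) ∧
    IsARNull (cokernel ι)) := by
  constructor
  · rintro ⟨r, hr⟩
    refine ⟨fun n => ⟨r, fun s hs => hr s hs n⟩, imgSys X r, imgι X r, inferInstance, fun n => ⟨r, fun s hs => ?_⟩,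
      (imgι_isARIso X r).2⟩
    exact ((imageSubobject_mono _).trans (Subobject.mk_arrow _)).trans (hr s hs n).symm
  · rintro ⟨-, X', ι, -, h0, hc⟩
    obtain ⟨r, hr⟩ := (isARNull_cokernel_iff ι).1 hc
    refine (isMLAR_iff X).2 ⟨r, fun n a m h1 h2 => ?_⟩
    obtain ⟨r0, h0⟩ := h0 n
    obtain ⟨T, π, _, y, hy⟩ : ∃ (T : C) (π : T ⟶ X.obj (op a)) (_ : Epi π) (y : T ⟶ X'.obj (op n)),
        π ≫ tr X (show n ≤ a by omega) = y ≫ ι.app (op n) := by
      have := (ShortComplex.mk (ι.app (op n)) _ (cokernel.condition _)).exact_of_g_is_cokernel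
        (cokernelIsCokernel (ι.app (op n)))
      obtain ⟨T, π, hπ, y, hy⟩ := this.exact_up_to_refinements (tr X (show n ≤ a by omega))
        (hr n a (by omega) h1 _ _ (cokernel.condition _))
      exact ⟨T, π, hπ, y, hy⟩
    obtain ⟨T1, π1, _, z, hz⟩ := (imageSubobject_le_iff _ _).1 (le_of_eq (h0 (max r0 (m - n)) (le_max_left _ _)))
    obtain ⟨T2, π2, _, w, hw⟩ := surjective_up_to_refinements_of_epi π1 y
    refine ⟨T2, π2 ≫ π, inferInstance, w ≫ z ≫ tr X (show m ≤ n + max r0 (m - n) by omega), ?_⟩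
    rw [Category.assoc, hy, reassoc_of% hw, hz]
    simp only [Category.assoc]
    exact congrArg (w ≫ ·) (congrArg (z ≫ ·) (tr_tr X _ _).symm)

/-- an isomorphism up to translation induces an isomorphism on limits -/
theorem isIso_limMap {Y : PS C} [HasLimitsOfShape ℕᵒᵖ C] (u : X ⟶ Y) (hu : IsARIso u) : IsIso (limMap u) := by
  obtain ⟨r, ⟨I⟩⟩ := exists_inv hu
  have nat : ∀ (n m : ℕ) (h : n ≤ m), 𝟙 (limit Y) ≫ limit.π Y (op (n + r)) ≫ I.ψ n (n + r) le_rfl =
      (limit.π Y (op (m + r)) ≫ I.ψ m (m + r) le_rfl) ≫ tr X h := fun n m h => by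
    rw [Category.assoc, I.ψ_tr n m (m + r) le_rfl h, ← I.tr_ψ n (n + r) (m + r) le_rfl (by omega), limit.w_assoc,
      Category.id_comp]
  let π : (Functor.const ℕᵒᵖ).obj (limit Y) ⟶ X :=
    natMk (fun n => limit.π Y (op (n + r)) ≫ I.ψ n (n + r) le_rfl) nat
  refine ⟨limit.lift X ⟨limit Y, π⟩, ?_, ?_⟩
  · refine limit.hom_ext fun n => ?_
    obtain ⟨n⟩ := n
    rw [Category.assoc, limit.lift_π, Category.id_comp]
    change limMap u ≫ limit.π Y (op (n + r)) ≫ I.ψ n (n + r) le_rfl = _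
    rw [limMap_π_assoc, I.u_ψ, limit.w]
  · refine limit.hom_ext fun n => ?_
    obtain ⟨n⟩ := n
    rw [Category.assoc, limMap_π, limit.lift_π_assoc, Category.id_comp]
    change (limit.π Y (op (n + r)) ≫ I.ψ n (n + r) le_rfl) ≫ u.app (op n) = _
    rw [Category.assoc, I.ψ_u, limit.w]

end Groth.Agent.ARLib
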