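import Groth.Agent.ARLib.Adic
import Groth.Agent.ARLib.Strict
import Mathlib.RingTheory.Finiteness.Ideal

/-! when is a system adic up to translation -/

universe w v u

open CategoryTheory CategoryTheory.Limits Opposite ARSys

namespace Groth.Agent.ARLib

set_option backward.isDefEq.respectTransparency.types false
set_option linter.unusedVariables false

variable {C : Type u} [Category.{v} C] [Abelian C] {A : Type w} [CommRing A] [Linear A C] {J : Ideal A}

theorem exists_isQuot_of_span {ι : Type w} [HasColimitsOfShape (Discrete ι) C] {I : Ideal A} (gen : ι → A)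
    (h1 : ∀ i, gen i ∈ I) (h2 : I ≤ Ideal.span (Set.range gen)) (X : C) :
    ∃ (Q : C) (p : X ⟶ Q), IsQuot I p := by
  let d : (∐ fun _ : ι => X) ⟶ X := Sigma.desc fun i => gen i • 𝟙 X
  have hd : ∀ {T : C} (φ : X ⟶ T), (∀ i, gen i • φ = 0) → d ≫ φ = 0 := fun φ hφ =>
    Sigma.hom_ext _ _ fun i => by simp [d, hφ i]
  have hp : HomKilledBy I (cokernel.π d) := fun a ha => by
    have hmem := h2 ha
    clear ha
    induction hmem using Submodule.span_induction with
    | mem x hx =>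
      obtain ⟨i, rfl⟩ := hx
      have := congrArg (Sigma.ι (fun _ : ι => X) i ≫ ·) (cokernel.condition d)
      rw [Sigma.ι_desc_assoc, Linear.smul_comp, Category.id_comp, comp_zero] at this
      exact this
    | zero => exact zero_smul _ _
    | add x y _ _ hx hy => rw [add_smul, hx, hy, add_zero]
    | smul c x _ hx => rw [smul_eq_mul, mul_smul, hx, smul_zero]
  refine ⟨_, cokernel.π d, fun a ha => ?_, fun T φ hφ => ⟨cokernel.desc d φ (hd φ fun i => hφ _ (h1 i)),
    cokernel.π_desc _ _ _, fun ψ hψ => by rw [← cancel_epi (cokernel.π d), hψ, cokernel.π_desc]⟩⟩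
  rw [← cancel_epi (cokernel.π d), Linear.comp_smul, Category.comp_id, comp_zero]
  exact hp a ha

theorem exists_isQuot (hJ : J.FG ∨ HasCoproducts.{w} C) (k : ℕ) (X : C) :
    ∃ (Q : C) (p : X ⟶ Q), IsQuot (J ^ k) p := by
  rcases hJ with h | h
  · obtain ⟨s, hs⟩ := Submodule.FG.pow h k
    exact exists_isQuot_of_span (ι := ↥s) (fun i => (i : A))
      (fun i => hs ▸ Submodule.subset_span i.2)
      (by simpa using le_of_eq hs.symm) X
  · exact exists_isQuot_of_span (ι := ↥(J ^ k)) (fun i => (i : A)) (fun i => i.2)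
      (fun a ha => Ideal.subset_span ⟨⟨a, ha⟩, rfl⟩) X

variable (J) in
/-- maps killed by a power of `J` factor up to translation through small indices -/
def Factors (X : PS C) (r : ℕ) : Prop :=
  ∀ (k m a : ℕ) (_ : k ≤ m) (_ : m + r ≤ a) (hma : m ≤ a) (hka : k + r ≤ a) (T : C) (φ : X.obj (op m) ⟶ T),
    HomKilledBy (J ^ (k + 1)) φ → ∃ θ : X.obj (op (k + r)) ⟶ T, tr X hma ≫ φ = tr X hka ≫ θ

theorem factors_of_isARAdic {X : PS C} (h : IsARAdic J X) : ∃ r, Factors J X r := by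
  obtain ⟨-, Y, u, hY, hu⟩ := h
  obtain ⟨r, ⟨I⟩⟩ := exists_inv hu
  refine ⟨r, fun k m a hkm ha hma hka T φ hφ => ?_⟩
  obtain ⟨θ, hθ, -⟩ := (hY.2 k m hkm).2 T (u.app (op m) ≫ φ) (killed_comp_left hφ _)
  refine ⟨I.ψ k (k + r) le_rfl ≫ θ, ?_⟩
  rw [← I.ψ_u m a ha, Category.assoc, ← hθ, ← Category.assoc, I.ψ_tr k m a ha hkm, reassoc_of% I.tr_ψ k (k + r) a le_rfl hka]

theorem isMLAR_of_isARAdic {X : PS C} (h : IsARAdic J X) : IsMLAR X :=
  let ⟨_, _, u, hY, hu⟩ := h
  isMLAR_of_strict X u (isStrict_of_isAdic hY) hu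

theorem factors_transfer {X X' : PS C} (u : X' ⟶ X) (hu : IsARIso u) {r : ℕ} (h : Factors J X r) :
    ∃ s, Factors J X' s := by
  obtain ⟨s, ⟨I⟩⟩ := exists_inv hu
  refine ⟨r + s, fun k m a hkm ha hma hka T φ hφ => ?_⟩
  obtain ⟨θ, hθ⟩ := h k (m + s) a (by omega) (by omega) (by omega) (by omega) T (I.ψ m (m + s) le_rfl ≫ φ)
    (killed_comp_left hφ _)
  refine ⟨tr X' (show k + r ≤ k + (r + s) by omega) ≫ u.app (op (k + r)) ≫ θ, ?_⟩
  have := congrArg (u.app (op a) ≫ ·) hθ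
  rw [← reassoc_of% tr_naturality u, ← reassoc_of% tr_naturality u, reassoc_of% I.u_ψ m (m + s) le_rfl,
    tr_tr_assoc] at this
  rw [this, tr_tr_assoc]

theorem exists_fac_of_strict {X : PS C} (hX : IsStrict X) {r : ℕ} (h : Factors J X r) {k m : ℕ} (hk : k + r ≤ m)
    {T : C} (φ : X.obj (op m) ⟶ T) (hφ : HomKilledBy (J ^ (k + 1)) φ) :
    ∃ θ : X.obj (op (k + r)) ⟶ T, tr X hk ≫ θ = φ := by
  obtain ⟨θ, hθ⟩ := h k m (m + r) (by omega) le_rfl (by omega) (by omega) T φ hφ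
  have := hX m (m + r) (by omega)
  exact ⟨θ, by rw [← cancel_epi (tr X (show m ≤ m + r by omega)), hθ, tr_tr_assoc]⟩

theorem exists_adic_quot (hJ : J.FG ∨ HasCoproducts.{w} C) {Z : PS C} (hZ : IsStrict Z) (kZ : TermKilled J Z)
    {r : ℕ} (h : Factors J Z r) :
    ∃ (Y : PS C) (q : (shift C r).obj Z ⟶ Y), (∀ n : ℕ, IsQuot (J ^ (n + 1)) (q.app (op n))) ∧ IsAdic J Y ∧
      ∃ w : Y ⟶ Z, IsARIso w := by
  choose Q p hp using fun n => exists_isQuot hJ (n + 1) (Z.obj (op (n + r)))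
  have hepi : ∀ n, Epi (p n) := fun n => IsQuot.epi (hp n)
  have hle : ∀ n m, n ≤ m → J ^ (m + 1) ≤ J ^ (n + 1) := fun n m hnm => Ideal.pow_le_pow_right (by omega)
  have ht : ∀ n m (hnm : n ≤ m), ∃ t : Q m ⟶ Q n, p m ≫ t = tr Z (Nat.add_le_add_right hnm r) ≫ p n :=
    fun n m hnm => ((hp m).2 _ _
      (killed_mono (killed_comp_left (IsQuot.homKilledBy (hp n)) _) (hle n m hnm))).exists
  choose t ht using ht
  let Y : PS C := systemMk Q t
    (fun n => by rw [← cancel_epi (p n), ht, tr_refl, Category.id_comp, Category.comp_id])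
    (fun a b c h1 h2 => by rw [← cancel_epi (p c), reassoc_of% ht b c h2, ht, tr_tr_assoc, ht])
  let q : (shift C r).obj Z ⟶ Y := natMk (X := (shift C r).obj Z) (Y := Y) (fun n => p n) fun n m hnm => (ht n m hnm).symm
  have hwex : ∀ n, ∃ w : Q n ⟶ Z.obj (op n), p n ≫ w = tr Z (Nat.le_add_right n r) := fun n =>
    ((hp n).2 _ _ (homKilledBy_of_tgt (kZ n) _)).exists
  choose w hw using hwex
  let W : Y ⟶ Z := natMk (X := Y) (fun n => w n) fun n m hnm => by
    change t n m hnm ≫ w n = w m ≫ tr Z hnm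
    rw [← cancel_epi (p m), reassoc_of% ht n m hnm, hw, reassoc_of% hw m, tr_tr, tr_tr]
  refine ⟨Y, q, hp, ⟨fun n => (hp n).1, fun n m hnm => ?_⟩, W, ?_⟩
  · change IsQuot (J ^ (n + 1)) (t n m hnm)
    refine ⟨(hp n).1, fun T φ hφ => ?_⟩
    have e1 := hZ (n + r) (m + r) (Nat.add_le_add_right hnm r)
    have het : Epi (t n m hnm) := by
      have : Epi (p m ≫ t n m hnm) := by rw [ht]; infer_instance
      exact epi_of_epi (p m) _
    obtain ⟨θ, hθ⟩ := exists_fac_of_strict hZ h (show n + r ≤ m + r by omega) (p m ≫ φ) (killed_comp_left hφ _)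
    obtain ⟨χ, hχ, -⟩ := (hp n).2 T θ (fun a ha => by
      rw [← cancel_epi (tr Z (Nat.add_le_add_right hnm r)), comp_zero, Linear.comp_smul, hθ]
      exact killed_comp_left hφ (p m) a ha)
    have e : t n m hnm ≫ χ = φ := by rw [← cancel_epi (p m), reassoc_of% ht n m hnm, hχ, hθ]
    exact ⟨χ, e, fun χ' hχ' => by rw [← cancel_epi (t n m hnm), e]; exact hχ'⟩
  · refine isARIso_of_inv (r := r)
      { ψ := fun n m hm => tr Z hm ≫ p n
        ψ_u := fun n m hm => by
          change (_ ≫ _) ≫ w n = _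
          rw [Category.assoc, hw, tr_tr]
        u_ψ := fun n m hm => by
          change w m ≫ _ = t n m _
          rw [← cancel_epi (p m), reassoc_of% hw m, ht]
          exact tr_tr_assoc Z _ _ _
        ψ_tr := fun n n' m hm hn => by
          change (_ ≫ _) ≫ t n n' hn = _
          exact (Category.assoc _ _ _).trans ((congrArg (tr Z hm ≫ ·) (ht n n' hn)).trans (tr_tr_assoc Z _ _ _))
        tr_ψ := fun n m m' hm hm' => tr_tr_assoc Z _ _ _ }

theorem isARAdic_of_factors (hJ : J.FG ∨ HasCoproducts.{w} C) {X : PS C} (kX : TermKilled J X) (hX : IsMLAR X)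
    {r : ℕ} (h : Factors J X r) : IsARAdic J X := by
  obtain ⟨X', ι, hX', hι, _⟩ := exists_strict_arIso X hX
  obtain ⟨s, hs⟩ := factors_transfer ι hι h
  have kX' : TermKilled J X' := fun n => by
    have : Mono (ι.app (op n)) := (NatTrans.mono_iff_mono_app _).1 inferInstance _
    exact killedBy_of_mono (kX n) (ι.app (op n))
  obtain ⟨Y, -, -, hY, w, hw⟩ := exists_adic_quot hJ hX' kX' hs
  exact ⟨kX, Y, w ≫ ι, hY, isARIso_comp hw hι⟩

theorem isMLAR_of_isStrict {X : PS C} (hX : IsStrict X) : IsMLAR X :=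
  isMLAR_of_strict X (𝟙 X) hX (isARIso_of_inv (r := 0)
    { ψ := fun n m h => tr X h
      ψ_u := fun n m h => Category.comp_id _
      u_ψ := fun n m h => Category.id_comp _
      ψ_tr := fun n n' m h hn => tr_tr X _ _
      tr_ψ := fun n m m' h hm => tr_tr X _ _ })

theorem isARAdic_iff_quot_shift (hJ : J.FG ∨ HasCoproducts.{w} C) {X : PS C} (hX : IsStrict X) (kX : TermKilled J X) :
    IsARAdic J X ↔ ∃ (r : ℕ) (Y : PS C) (q : (shift C r).obj X ⟶ Y),
      (∀ n : ℕ, IsQuot (J ^ (n + 1)) (q.app (op n))) ∧ IsAdic J Y := by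
  constructor
  · intro h
    obtain ⟨r, hr⟩ := factors_of_isARAdic h
    obtain ⟨Y, q, hq, hY, -⟩ := exists_adic_quot hJ hX kX hr
    exact ⟨r, Y, q, hq, hY⟩
  · rintro ⟨r, Y, q, hq, hY⟩
    refine isARAdic_of_factors hJ kX (isMLAR_of_isStrict hX) (r := r) fun k m a hkm ha hma hka T φ hφ => ?_
    obtain ⟨χ, hχ, -⟩ := (hq m).2 T (tr X (Nat.le_add_right m r) ≫ φ)
      (killed_mono (killed_comp_left hφ _) (Ideal.pow_le_pow_right (by omega)))
    have := IsQuot.epi (hq m)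
    obtain ⟨θ, hθ, -⟩ := (hY.2 k m hkm).2 T χ (fun b hb => by
      rw [← cancel_epi (q.app (op m)), comp_zero, Linear.comp_smul, hχ]
      exact killed_comp_left hφ _ b hb)
    have nat : tr X (Nat.add_le_add_right hkm r) ≫ q.app (op k) = q.app (op m) ≫ tr Y hkm := tr_naturality q hkm
    refine ⟨q.app (op k) ≫ θ, ?_⟩
    calc tr X hma ≫ φ = tr X ha ≫ tr X (Nat.le_add_right m r) ≫ φ := (tr_tr_assoc X _ _ _).symm
      _ = tr X ha ≫ q.app (op m) ≫ χ := congrArg (tr X ha ≫ ·) hχ.symm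
      _ = tr X ha ≫ (tr X (Nat.add_le_add_right hkm r) ≫ q.app (op k)) ≫ θ :=
          congrArg (tr X ha ≫ ·) ((congrArg (q.app (op m) ≫ ·) hθ.symm).trans ((Category.assoc _ _ _).symm.trans
            (congrArg (· ≫ θ) nat.symm)))
      _ = tr X ha ≫ tr X (Nat.add_le_add_right hkm r) ≫ q.app (op k) ≫ θ :=
          congrArg (tr X ha ≫ ·) (Category.assoc _ _ _)
      _ = tr X hka ≫ q.app (op k) ≫ θ := tr_tr_assoc X _ _ _

theorem isARAdic_iff_fker (hJ : J.FG ∨ HasCoproducts.{w} C) {X : PS C} (hX : IsStrict X) (kX : TermKilled J X) :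
    IsARAdic J X ↔ ∃ r : ℕ, 0 < r ∧ ∀ n : ℕ, SubLEIdeal (J ^ (n - r)) (Fker X n) := by
  constructor
  · intro h
    obtain ⟨r, hr⟩ := factors_of_isARAdic h
    refine ⟨r + 1, by omega, fun n T φ hφ => ?_⟩
    by_cases hn : n ≤ r + 1
    · rw [Nat.sub_eq_zero_of_le hn, pow_zero] at hφ
      have := hφ 1 (by simp)
      rw [one_smul] at this
      rw [this, comp_zero]
    · obtain ⟨l, rfl⟩ : ∃ l, n = l + 1 := ⟨n - 1, by omega⟩
      rw [show l + 1 - (r + 1) = (l - r - 1) + 1 by omega] at hφ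
      obtain ⟨θ, rfl⟩ := exists_fac_of_strict hX hr (show l - r - 1 + r ≤ l + 1 by omega) φ hφ
      rw [← tr_tr_assoc X (show l - r - 1 + r ≤ l by omega) (Nat.le_succ l)]
      exact (kernelSubobject_arrow_comp_assoc _ _).trans zero_comp
  · rintro ⟨r, -, hr⟩
    have main : ∀ d k m (hm : m = k + r + d) (T : C) (φ : X.obj (op m) ⟶ T), HomKilledBy (J ^ (k + 1)) φ →
        ∃ θ : X.obj (op (k + r)) ⟶ T, tr X (show k + r ≤ m by omega) ≫ θ = φ := by
      intro d
      induction d with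
      | zero =>
        intro k m hm T φ _
        subst hm
        exact ⟨φ, by simp⟩
      | succ d ih =>
        intro k m hm T φ hφ
        subst hm
        have h0 : (Fker X (k + r + d + 1)).arrow ≫ φ = 0 :=
          hr (k + r + d + 1) T φ (killed_mono hφ (Ideal.pow_le_pow_right (by omega)))
        have := hX (k + r + d) (k + r + d + 1) (Nat.le_succ _)
        obtain ⟨φ', hφ'⟩ : ∃ φ', tr X (Nat.le_succ (k + r + d)) ≫ φ' = φ := ⟨Abelian.epiDesc _ φ (by
          change (kernelSubobject (tr X (Nat.le_succ (k + r + d)))).arrow ≫ φ = 0 at h0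
          rw [← kernelSubobject_arrow', Category.assoc, h0, comp_zero]), Abelian.comp_epiDesc _ _ _⟩
        obtain ⟨θ, hθ⟩ := ih k (k + r + d) rfl T φ' (fun a ha => by
          rw [← cancel_epi (tr X (Nat.le_succ (k + r + d))), comp_zero, Linear.comp_smul, hφ']
          exact hφ a ha)
        exact ⟨θ, by rw [← hφ', ← hθ, tr_tr_assoc]⟩
    refine isARAdic_of_factors hJ kX (isMLAR_of_isStrict hX) (r := r) fun k m a hkm ha hma hka T φ hφ => ?_
    by_cases hm : k + r ≤ m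
    · obtain ⟨θ, rfl⟩ := main (m - (k + r)) k m (by omega) T φ hφ
      exact ⟨θ, tr_tr_assoc X _ _ _⟩
    · exact ⟨tr X (show m ≤ k + r by omega) ≫ φ, (tr_tr_assoc X _ _ _).symm⟩

theorem isARAdic_X₃ (hJ : J.FG ∨ HasCoproducts.{w} C) {S : ShortComplex (PS C)} (hS : S.ShortExact)
    (k₃ : TermKilled J S.X₃) (h₁ : IsMLAR S.X₁) (h₂ : IsARAdic J S.X₂) : IsARAdic J S.X₃ := by
  obtain ⟨r, hr⟩ := factors_of_isARAdic h₂
  obtain ⟨r1, h1⟩ := exists_of_isMLAR h₁
  refine isARAdic_of_factors hJ k₃ (isMLAR_X₃ hS (isMLAR_of_isARAdic h₂)) (r := r + r1)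
    fun k m a hkm ha hma hka T φ hφ => ?_
  obtain ⟨θ, hθ⟩ := hr k m a hkm (by omega) hma (by omega) T (S.g.app (op m) ≫ φ) (killed_comp_left hφ _)
  obtain ⟨θ', hθ'⟩ := desc_app hS (tr S.X₂ (show k + r ≤ k + (r + r1) by omega) ≫ θ) (by
    obtain ⟨T', π, _, y, hy⟩ := h1 (k + r) (k + (r + r1)) a (by omega) (by omega) (by omega) (by omega) (𝟙 _)
    rw [Category.id_comp] at hy
    rw [← cancel_epi π, comp_zero, ← tr_naturality_assoc, reassoc_of% hy, tr_naturality_assoc, ← hθ, ← tr_naturality_assoc, comp_app_zero_assoc, zero_comp, comp_zero,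
      comp_zero])
  refine ⟨θ', ?_⟩
  have := epi_app hS a
  rw [← cancel_epi (S.g.app (op a)), ← tr_naturality_assoc, hθ, ← tr_naturality_assoc, hθ', tr_tr_assoc]

theorem isMLAR_X₁ {S : ShortComplex (PS C)} (hS : S.ShortExact) (k₂ : TermKilled J S.X₂) (h₂ : IsMLAR S.X₂)
    (h₃ : IsARAdic J S.X₃) : IsMLAR S.X₁ := by
  obtain ⟨r, hr⟩ := factors_of_isARAdic h₃
  obtain ⟨r2, h2⟩ := exists_of_isMLAR h₂
  refine (isMLAR_iff _).2 ⟨r + r2, fun n a m h1 ham => ?_⟩
  let c := cokernel.π (tr S.X₁ (show n ≤ m by omega))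
  have := mono_app hS n
  let π : S.X₂.obj (op n) ⟶ pushout (S.f.app (op n)) c := pushout.inl _ _
  have := epi_app hS m
  obtain ⟨φ, hφ⟩ := desc_app hS (tr S.X₂ (show n ≤ m by omega) ≫ π) (by
    rw [← tr_naturality_assoc, pushout.condition, cokernel.condition_assoc, zero_comp])
  obtain ⟨θ, hθ⟩ := hr n m (m + r) (by omega) le_rfl (by omega) (by omega) _ φ (fun b hb => by
    rw [← cancel_epi (S.g.app (op m)), comp_zero, Linear.comp_smul, hφ]
    exact killed_comp_right (homKilledBy_app k₂ _) π b hb)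
  have e : tr S.X₂ (show n ≤ m + r by omega) ≫ π = tr S.X₂ (show n + r ≤ m + r by omega) ≫ S.g.app (op (n + r)) ≫ θ := by
    rw [tr_naturality_assoc, ← hθ, ← tr_naturality_assoc, hφ, tr_tr_assoc]
  obtain ⟨T', π', _, y, hy⟩ := h2 (n + r) a (m + r) (by omega) (by omega) (by omega) (by omega) (S.f.app (op a))
  have h0 : tr S.X₁ (show n ≤ a by omega) ≫ c = 0 := by
    refine zero_of_comp_mono (pushout.inr (S.f.app (op n)) c) ?_
    rw [Category.assoc, ← pushout.condition, tr_naturality_assoc, ← cancel_epi π',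
      ← tr_tr_assoc S.X₂ (show n ≤ n + r by omega) (show n + r ≤ a by omega), reassoc_of% hy, tr_tr_assoc, e,
      ← reassoc_of% hy, ← tr_naturality_assoc, comp_app_zero_assoc, zero_comp, comp_zero]
  exact ((ShortComplex.mk _ c (cokernel.condition _)).exact_of_g_is_cokernel
    (cokernelIsCokernel (tr S.X₁ (show n ≤ m by omega)))).exact_up_to_refinements _ h0

end Groth.Agent.ARLib
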