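import Groth.Agent.ARLib.Basic
import Mathlib.CategoryTheory.Preadditive.Injective.Basic

/-! injective projective systems -/

universe v u

open CategoryTheory CategoryTheory.Limits Opposite ARSys

namespace Groth.Agent.ARLib

set_option backward.isDefEq.respectTransparency.types false

variable {A : Type u} [Category.{v} A] [Abelian A]

theorem enoughInjectives_of_functor [EnoughInjectives (PS A)] : EnoughInjectives A where
  presentation M := by
    let L : A → PS A := fun Q => systemMk (fun n => ∏ᶜ fun _ : PLift (n ≤ 0) => Q)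
      (fun n m h => Pi.lift fun _ => if hm : m ≤ 0 then Pi.π (fun _ : PLift (m ≤ 0) => Q) ⟨hm⟩ else 0)
      (fun n => Pi.hom_ext _ _ fun h => by simp [h.down])
      (fun a b c h1 h2 => Pi.hom_ext _ _ fun h => by
        simp only [Category.assoc, Pi.lift_π]
        by_cases hc : c ≤ 0
        · simp [hc, show b ≤ 0 by omega]
        · by_cases hb : b ≤ 0 <;> simp [hc, hb])
    let emb : ∀ Q, Q ⟶ (L Q).obj (op 0) := fun Q => Pi.lift fun _ => 𝟙 Q
    let proj : ∀ Q, (L Q).obj (op 0) ⟶ Q := fun Q => Pi.π (fun _ : PLift (0 ≤ 0) => Q) ⟨le_rfl⟩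
    have hpe : ∀ Q, proj Q ≫ emb Q = 𝟙 _ := fun Q => Pi.hom_ext _ _ fun h => by
      change (proj Q ≫ Pi.lift (fun _ : PLift (0 ≤ 0) => 𝟙 Q)) ≫ Pi.π (fun _ : PLift (0 ≤ 0) => Q) h =
        𝟙 (∏ᶜ fun _ : PLift (0 ≤ 0) => Q) ≫ Pi.π (fun _ : PLift (0 ≤ 0) => Q) h
      simp only [Category.assoc, Pi.lift_π, Category.comp_id, Category.id_comp]
      rfl
    have hep : ∀ Q, emb Q ≫ proj Q = 𝟙 _ := fun Q => Pi.lift_π _ _
    have hz : ∀ Q n, 0 < n → IsZero ((L Q).obj (op n)) := fun Q n hn =>
      (IsZero.iff_id_eq_zero _).2 (Pi.hom_ext _ _ fun h => absurd (show n ≤ 0 from h.down) (by omega))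
    -- maps out of `L Q`
    let ext : ∀ (Q : A) (Y : PS A), (Q ⟶ Y.obj (op 0)) → (L Q ⟶ Y) := fun Q Y c =>
      natMk (fun n => if hn : n = 0 then eqToHom (by rw [hn]) ≫ proj Q ≫ c ≫ eqToHom (by rw [hn]) else 0)
        (fun n m h => by
          rcases Nat.eq_zero_or_pos m with hm | hm
          · subst hm
            obtain rfl := Nat.le_zero.1 h
            simp
          · exact (hz Q m hm).eq_of_src _ _)
    have ext0 : ∀ Q Y c, (ext Q Y c).app (op 0) = proj Q ≫ c := fun Q Y c => by simp [ext]
    let I := Injective.under (L M)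
    let ι := Injective.ι (L M)
    have hI : Injective (I.obj (op 0)) := ⟨fun {Z W} f g _ => by
      let a : L Z ⟶ I := ext Z I f
      let b : L Z ⟶ L W := ext Z (L W) (g ≫ emb W)
      have : Mono b := by
        refine (NatTrans.mono_iff_mono_app _).2 fun n => ?_
        obtain ⟨n⟩ := n
        rcases Nat.eq_zero_or_pos n with hn | hn
        · subst hn
          have : Mono (emb W) := mono_of_mono_fac (hep W)
          have : Mono (proj Z) := mono_of_mono_fac (hpe Z)
          change Mono (b.app (op 0))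
          rw [ext0]
          infer_instance
        · exact ⟨fun _ _ _ => (hz Z n hn).eq_of_tgt _ _⟩
      obtain ⟨h, hh⟩ := Injective.factors a b
      refine ⟨emb W ≫ h.app (op 0), ?_⟩
      have := congrArg (fun t : L Z ⟶ I => emb Z ≫ t.app (op 0)) hh
      simp only [NatTrans.comp_app, a, b, ext0] at this
      simp only [Category.assoc] at this
      rw [reassoc_of% hep Z, reassoc_of% hep Z] at this
      simpa using this⟩
    have : Mono (emb M) := mono_of_mono_fac (hep M)
    have : Mono (ι.app (op 0)) := (NatTrans.mono_iff_mono_app _).1 inferInstance _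
    exact ⟨{ J := I.obj (op 0), injective := hI, f := emb M ≫ ι.app (op 0), mono := inferInstance }⟩

theorem enoughInjectives_functor [EnoughInjectives A] : EnoughInjectives (PS A) where
  presentation X := by
    let Q : ℕ → A := fun j => Injective.under (X.obj (op j))
    let P : PS A := systemMk (fun n => ∏ᶜ fun j : Fin (n + 1) => Q j)
      (fun n m h => Pi.lift fun j => Pi.π (fun j : Fin (m + 1) => Q j) (j.castLE (by omega)))
      (fun n => Pi.hom_ext _ _ fun j => by simp)
      (fun a b c h1 h2 => Pi.hom_ext _ _ fun j => by simp; rfl)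
    let π : ∀ n (j : Fin (n + 1)), P.obj (op n) ⟶ Q j := fun n j => Pi.π (fun j : Fin (n + 1) => Q j) j
    have hπ : ∀ n m (h : n ≤ m) j, tr P h ≫ π n j = π m (j.castLE (by omega)) := fun n m h j => Pi.lift_π _ _
    -- maps into `P`
    let mkP : ∀ (W : PS A), (∀ j, W.obj (op j) ⟶ Q j) → (W ⟶ P) := fun W d =>
      natMk (fun n => Pi.lift fun j : Fin (n + 1) => tr W (show (j : ℕ) ≤ n by omega) ≫ d j)
        (fun n m h => Pi.hom_ext _ _ fun j => by
          refine (Category.assoc _ _ _).trans (Eq.trans ?_ ((congrArg (_ ≫ ·) (hπ n m h j)).symm.trans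
            (Category.assoc _ _ _).symm))
          refine Eq.trans ?_ (Pi.lift_π (fun j : Fin (m + 1) => tr W (Nat.lt_succ_iff.1 j.2) ≫ d j)
            (j.castLE (Nat.add_le_add_right h 1))).symm
          refine (congrArg (_ ≫ ·) (Pi.lift_π _ _)).trans ?_
          exact tr_tr_assoc W _ _ _)
    have hP : Injective P := ⟨fun {Z W} f g _ => by
      have : ∀ j, ∃ d : W.obj (op j) ⟶ Q j, g.app (op j) ≫ d = f.app (op j) ≫ π j (Fin.last j) := fun j => by
        have : Mono (g.app (op j)) := (NatTrans.mono_iff_mono_app _).1 inferInstance _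
        exact ⟨_, Injective.comp_factorThru (J := Q j) (f.app (op j) ≫ π j (Fin.last j)) (g.app (op j))⟩
      choose d hd using this
      refine ⟨mkP W d, hom_ext fun n => Pi.hom_ext _ _ fun j => ?_⟩
      change (g.app (op n) ≫ Pi.lift _) ≫ π n j = f.app (op n) ≫ π n j
      have hj : (j : ℕ) ≤ n := Nat.lt_succ_iff.1 j.2
      have e : π n j = tr P hj ≫ π j (Fin.last j) := (hπ j n hj (Fin.last (j : ℕ))).symm
      rw [e, ← reassoc_of% tr_naturality f hj, ← hd j, tr_naturality_assoc, ← e, Category.assoc]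
      exact congrArg (_ ≫ ·) (Pi.lift_π _ _)⟩
    refine ⟨{ J := P, injective := hP, f := mkP X fun j => Injective.ι (X.obj (op j)), mono := ?_ }⟩
    refine (NatTrans.mono_iff_mono_app _).2 fun n => ?_
    obtain ⟨n⟩ := n
    have e : (mkP X fun j => Injective.ι (X.obj (op j))).app (op n) ≫ π n (Fin.last n) = Injective.ι (X.obj (op n)) :=
      (Pi.lift_π _ _).trans (by simp)
    exact mono_of_mono_fac e

end Groth.Agent.ARLib
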