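import Groth.Agent.ARLib.Criterion

/-! invariance under isomorphisms up to translation; extensions -/

universe w v u

open CategoryTheory CategoryTheory.Limits Opposite ARSys

namespace Groth.Agent.ARLib

set_option backward.isDefEq.respectTransparency.types false

variable {C : Type u} [Category.{v} C] [Abelian C] {A : Type w} [CommRing A] [Linear A C] {J : Ideal A}

theorem isMLAR_of_arIso {K X : PS C} (v : K ⟶ X) (hv : IsARIso v) (hX : IsMLAR X) : IsMLAR K := by
  obtain ⟨r, ⟨I⟩⟩ := exists_inv hv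
  obtain ⟨r1, h1⟩ := exists_of_isMLAR hX
  refine (isMLAR_iff K).2 ⟨r + r1, fun n a m ha hm => ?_⟩
  obtain ⟨T, π, hπ, y, hy⟩ := h1 (n + r) a (m + r) (by omega) (by omega) (by omega) (by omega) (v.app (op a))
  refine ⟨T, π, hπ, y ≫ I.ψ m (m + r) le_rfl, ?_⟩
  rw [← I.u_ψ n a (by omega), ← I.tr_ψ n (n + r) a le_rfl (by omega), reassoc_of% hy, I.tr_ψ, Category.assoc, I.ψ_tr]

theorem termKilled_of_mono {X Y : PS C} (f : X ⟶ Y) [Mono f] (hY : TermKilled J Y) : TermKilled J X := fun n => by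
  have : Mono (f.app (op n)) := (NatTrans.mono_iff_mono_app _).1 inferInstance _
  exact killedBy_of_mono (hY n) (f.app (op n))

theorem isARAdic_of_arIso {X Z : PS C} (hZ : IsARAdic J Z) (u : Z ⟶ X) (hu : IsARIso u) (kX : TermKilled J X) :
    IsARAdic J X := by
  obtain ⟨-, W, w, hW, hw⟩ := hZ
  exact ⟨kX, W, w ≫ u, hW, isARIso_comp hw hu⟩

theorem epi_ψ_of_strict {X Y : PS C} {u : Y ⟶ X} (hY : IsStrict Y) {r : ℕ} (I : ARInv u r) (n : ℕ) :
    Epi (I.ψ n (n + r) le_rfl) := by
  have := hY n (n + r) (Nat.le_add_right n r)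
  have : Epi (u.app (op (n + r)) ≫ I.ψ n (n + r) le_rfl) := by rw [I.u_ψ]; infer_instance
  exact epi_of_epi (u.app (op (n + r))) _

/-- an extension of systems adic up to translation is adic up to translation -/
theorem isARAdic_X₂ (hJ : J.FG ∨ HasCoproducts.{w} C) {S : ShortComplex (PS C)} (hS : S.ShortExact)
    (k₂ : TermKilled J S.X₂) (h₁ : IsARAdic J S.X₁) (h₃ : IsARAdic J S.X₃) : IsARAdic J S.X₂ := by
  have hML : IsMLAR S.X₂ := isMLAR_X₂ hS (isMLAR_of_isARAdic h₁) (isMLAR_of_isARAdic h₃)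
  obtain ⟨r1, hr1⟩ := factors_of_isARAdic h₁
  obtain ⟨r3, hr3⟩ := factors_of_isARAdic h₃
  obtain ⟨r2, h2⟩ := exists_of_isMLAR hML
  refine isARAdic_of_factors hJ k₂ hML (r := r1 + r3 + r2) fun k m a hkm ha hma hka T φ hφ => ?_
  -- `φ` kills the kernel of `X_a ⟶ X_{k+r1+r3}`
  have hL : k + (r1 + r3) ≤ a := by omega
  have hker : kernel.ι (tr S.X₂ hL) ≫ tr S.X₂ hma ≫ φ = 0 := by
    obtain ⟨α, hα⟩ := hr1 k m (m + r1) hkm le_rfl (by omega) (by omega) T (S.f.app (op m) ≫ φ) (killed_comp_left hφ _)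
    have := mono_app hS (k + r1)
    let i : T ⟶ pushout (S.f.app (op (k + r1))) α := pushout.inr _ _
    let π : S.X₂.obj (op (k + r1)) ⟶ pushout (S.f.app (op (k + r1))) α := pushout.inl _ _
    obtain ⟨β, hβ⟩ := desc_app hS (tr S.X₂ (show m ≤ m + r1 by omega) ≫ φ ≫ i -
        tr S.X₂ (show k + r1 ≤ m + r1 by omega) ≫ π) (by
      rw [Preadditive.comp_sub, ← tr_naturality_assoc, ← tr_naturality_assoc, reassoc_of% hα, pushout.condition,
        sub_self])
    obtain ⟨δ, hδ⟩ := hr3 (k + r1) (m + r1) a (by omega) (by omega) (by omega) (by omega) _ β (fun b hb => by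
      have := epi_app hS (m + r1)
      rw [← cancel_epi (S.g.app (op (m + r1))), comp_zero, Linear.comp_smul, hβ, smul_sub,
        killed_comp_left (killed_comp_right (killed_mono hφ (Ideal.pow_le_pow_right (by omega))) i) _ b hb,
        killed_comp_right (homKilledBy_app k₂ (tr S.X₂ (show k + r1 ≤ m + r1 by omega))) π b hb,
        sub_self])
    refine zero_of_comp_mono i ?_
    have e := congrArg (fun t => kernel.ι (tr S.X₂ hL) ≫ tr S.X₂ (show m + r1 ≤ a by omega) ≫ t) hβ
    simp only [Preadditive.comp_sub, tr_tr_assoc] at e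
    rw [tr_naturality_assoc, hδ, ← tr_naturality_assoc, ← tr_tr_assoc S.X₂ (show k + r1 + r3 ≤ k + (r1 + r3) by omega) hL,
      kernel.condition_assoc, zero_comp, ← tr_tr_assoc S.X₂ (show k + r1 ≤ k + (r1 + r3) by omega) hL,
      kernel.condition_assoc, zero_comp, sub_zero] at e
    rw [Category.assoc, Category.assoc]
    exact e.symm
  -- so it factors through the image, which is already reached from `X_{k+r1+r3+r2}`
  let f := tr S.X₂ hL
  let g := tr S.X₂ (show k + (r1 + r3) ≤ k + (r1 + r3 + r2) by omega)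
  let e := Abelian.factorThruImage f
  have he : e ≫ Abelian.image.ι f = f := Abelian.image.fac _
  obtain ⟨T', π, hπ, y, hy⟩ := h2 (k + (r1 + r3)) (k + (r1 + r3 + r2)) a (by omega) hka (by omega) hL (𝟙 _)
  rw [Category.id_comp] at hy
  have : Epi π := hπ
  let l : S.X₂.obj (op (k + (r1 + r3 + r2))) ⟶ Abelian.image f :=
    kernel.lift _ g (by rw [← cancel_epi π, reassoc_of% hy, cokernel.condition, comp_zero, comp_zero])
  have hl : l ≫ Abelian.image.ι f = g := kernel.lift_ι _ _ _
  have hk : kernel.ι e ≫ tr S.X₂ hma ≫ φ = 0 := by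
    have : kernel.ι e ≫ f = 0 := (congrArg (_ ≫ ·) he.symm).trans (by rw [← Category.assoc, kernel.condition, zero_comp])
    rw [← kernel.lift_ι f (kernel.ι e) this, Category.assoc, hker, comp_zero]
  refine ⟨l ≫ Abelian.epiDesc e (tr S.X₂ hma ≫ φ) hk, ?_⟩
  have : tr S.X₂ hka ≫ l = e := by
    rw [← cancel_mono (Abelian.image.ι f), Category.assoc, hl, he, tr_tr]
  rw [reassoc_of% this, Abelian.comp_epiDesc]

/-- `0 → T → X → Y → Z → 0` with `T` null -/
theorem isARAdic_of_exact (hJ : J.FG ∨ HasCoproducts.{w} C) {T X Y Z : PS C} (a : T ⟶ X) (b : X ⟶ Y) (c : Y ⟶ Z)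
    [Mono a] [Epi c] (wab : a ≫ b = 0) (wbc : b ≫ c = 0)
    (hab : (ShortComplex.mk a b wab).Exact) (hbc : (ShortComplex.mk b c wbc).Exact)
    (hT : IsARNull T) (hX : IsARAdic J X) (hY : TermKilled J Y) (hZ : IsARAdic J Z) : IsARAdic J Y := by
  let i := Abelian.image.ι b
  let e := Abelian.factorThruImage b
  have he : e ≫ i = b := Abelian.image.fac _
  have hIc : i ≫ c = 0 := by rw [← cancel_epi e, reassoc_of% he, wbc, comp_zero]
  have hab' : (ShortComplex.mk a e (by rw [← cancel_mono i, Category.assoc, he, wab, zero_comp])).ShortExact := by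
    refine { exact := ?_ }
    rw [ShortComplex.exact_iff_exact_up_to_refinements] at hab ⊢
    intro B x hx
    change x ≫ e = 0 at hx
    exact hab x ((congrArg (x ≫ ·) he.symm).trans ((Category.assoc _ _ _).symm.trans (by rw [hx, zero_comp])))
  have hbc' : (ShortComplex.mk i c hIc).ShortExact := by
    refine { exact := ?_ }
    rw [ShortComplex.exact_iff_exact_up_to_refinements] at hbc ⊢
    intro B x hx
    obtain ⟨B', π, hπ, y, hy⟩ := hbc x hx
    exact ⟨B', π, hπ, y ≫ e, by change π ≫ x = (y ≫ e) ≫ i; rw [Category.assoc, he]; exact hy⟩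
  have he_iso : IsARIso e := by
    obtain ⟨r, hr⟩ := (isARNull_iff T).1 hT
    refine ⟨(isARNull_kernel_iff e).2 ⟨r, fun n m h hm B x hx => ?_⟩, (isARNull_cokernel_iff e).2 ⟨0, fun n m h hm B x hx => ?_⟩⟩
    · obtain ⟨y, rfl⟩ := lift_app hab' x hx
      refine (Category.assoc _ _ _).trans ((congrArg (y ≫ ·) ((tr_naturality a h).symm.trans ?_)).trans comp_zero)
      rw [hr n m h hm, zero_comp]
    · have := (NatTrans.epi_iff_epi_app e).1 inferInstance (op n)
      have hx0 : x = 0 := by rw [← cancel_epi (e.app (op n)), hx, comp_zero]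
      rw [hx0, comp_zero]
  exact isARAdic_X₂ hJ hbc' hY (isARAdic_of_arIso hX e he_iso (termKilled_of_mono i hY)) hZ


end Groth.Agent.ARLib
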