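import Groth.Agent.ARLib.Basic

/-! isomorphisms up to translation have inverses up to translation -/

universe v u

open CategoryTheory CategoryTheory.Limits Opposite ARSys

namespace Groth.Agent.ARLib

set_option backward.isDefEq.respectTransparency.types false

variable {C : Type u} [Category.{v} C] [Abelian C] {X Y Z : PS C}

theorem kernel_lift_app (u : X ⟶ Y) {n : ℕ} {T : C} (x : T ⟶ X.obj (op n)) (hx : x ≫ u.app (op n) = 0) :
    ∃ y, y ≫ (kernel.ι u).app (op n) = x := by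
  let S := ShortComplex.mk (kernel.ι u) u (kernel.condition u)
  have h : S.Exact := S.exact_of_f_is_kernel (kernelIsKernel u)
  have h' := h.map ((evaluation ℕᵒᵖ C).obj (op n))
  have : Mono (S.map ((evaluation ℕᵒᵖ C).obj (op n))).f := inferInstanceAs (Mono ((kernel.ι u).app (op n)))
  exact ⟨_, h'.lift_f x hx⟩

theorem cokernel_desc_app (u : X ⟶ Y) {n : ℕ} {T : C} (x : Y.obj (op n) ⟶ T) (hx : u.app (op n) ≫ x = 0) :
    ∃ y, (cokernel.π u).app (op n) ≫ y = x := by
  let S := ShortComplex.mk u (cokernel.π u) (cokernel.condition u)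
  have h : S.Exact := S.exact_of_g_is_cokernel (cokernelIsCokernel u)
  have h' := h.map ((evaluation ℕᵒᵖ C).obj (op n))
  have : Epi (S.map ((evaluation ℕᵒᵖ C).obj (op n))).g := inferInstanceAs (Epi ((cokernel.π u).app (op n)))
  exact ⟨_, h'.g_desc x hx⟩

theorem isARNull_kernel_iff (u : X ⟶ Y) : IsARNull (kernel u) ↔
    ∃ r : ℕ, ∀ (n m : ℕ) (h : n ≤ m), n + r ≤ m → ∀ (T : C) (x : T ⟶ X.obj (op m)), x ≫ u.app (op m) = 0 →
      x ≫ tr X h = 0 := by
  rw [isARNull_iff]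
  constructor
  · rintro ⟨r, hr⟩
    refine ⟨r, fun n m h hm T x hx => ?_⟩
    obtain ⟨y, rfl⟩ := kernel_lift_app u x hx
    rw [Category.assoc, ← tr_naturality, hr n m h hm, zero_comp, comp_zero]
  · rintro ⟨r, hr⟩
    refine ⟨r, fun n m h hm => ?_⟩
    rw [← cancel_mono ((kernel.ι u).app (op n)), zero_comp, tr_naturality]
    exact hr n m h hm _ _ (by rw [← NatTrans.comp_app, kernel.condition]; rfl)

theorem isARNull_cokernel_iff (u : X ⟶ Y) : IsARNull (cokernel u) ↔
    ∃ r : ℕ, ∀ (n m : ℕ) (h : n ≤ m), n + r ≤ m → ∀ (T : C) (x : Y.obj (op n) ⟶ T), u.app (op n) ≫ x = 0 →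
      tr Y h ≫ x = 0 := by
  rw [isARNull_iff]
  constructor
  · rintro ⟨r, hr⟩
    refine ⟨r, fun n m h hm T x hx => ?_⟩
    obtain ⟨y, rfl⟩ := cokernel_desc_app u x hx
    rw [tr_naturality_assoc, hr n m h hm, zero_comp, comp_zero]
  · rintro ⟨r, hr⟩
    refine ⟨r, fun n m h hm => ?_⟩
    rw [← cancel_epi ((cokernel.π u).app (op m)), comp_zero, ← tr_naturality]
    exact hr n m h hm _ _ (by rw [← NatTrans.comp_app, cokernel.condition]; rfl)

/-- an inverse up to translation by `r` -/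
structure ARInv (u : X ⟶ Y) (r : ℕ) where
  /-- the components -/
  ψ : ∀ n m : ℕ, n + r ≤ m → (Y.obj (op m) ⟶ X.obj (op n))
  ψ_u : ∀ n m h, ψ n m h ≫ u.app (op n) = tr Y (show n ≤ m by omega)
  u_ψ : ∀ n m h, u.app (op m) ≫ ψ n m h = tr X (show n ≤ m by omega)
  ψ_tr : ∀ n n' m (h : n' + r ≤ m) (hn : n ≤ n'), ψ n' m h ≫ tr X hn = ψ n m (by omega)
  tr_ψ : ∀ n m m' (h : n + r ≤ m) (hm : m ≤ m'), tr Y hm ≫ ψ n m h = ψ n m' (by omega)

theorem isARIso_of_inv {u : X ⟶ Y} {r : ℕ} (I : ARInv u r) : IsARIso u := by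
  constructor
  · refine (isARNull_kernel_iff u).2 ⟨r, fun n m h hm T x hx => ?_⟩
    rw [← I.u_ψ n m hm, reassoc_of% hx, zero_comp]
  · refine (isARNull_cokernel_iff u).2 ⟨r, fun n m h hm T x hx => ?_⟩
    rw [← I.ψ_u n m hm, Category.assoc, hx, comp_zero]

theorem exists_inv {u : X ⟶ Y} (hu : IsARIso u) : ∃ r, Nonempty (ARInv u r) := by
  obtain ⟨r0, h0⟩ := (isARNull_kernel_iff u).1 hu.1
  obtain ⟨r1, h1⟩ := (isARNull_cokernel_iff u).1 hu.2
  have pre : ∀ n m, ∀ (_ : n + r0 + r1 ≤ m) (hnm : n ≤ m), ∃ ψ : Y.obj (op m) ⟶ X.obj (op n),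
      ψ ≫ u.app (op n) = tr Y hnm ∧ u.app (op m) ≫ ψ = tr X hnm := fun n m hm hnm => by
    let a := n + r0
    have hna : n ≤ a := Nat.le_add_right n r0
    have ham : a ≤ m := by omega
    obtain ⟨l, hl⟩ : ∃ l, l ≫ Abelian.image.ι (u.app (op a)) = tr Y ham :=
      ⟨kernel.lift _ (tr Y ham) (h1 a m ham (by omega) _ _ (cokernel.condition _)), kernel.lift_ι _ _ _⟩
    let e := Abelian.factorThruImage (u.app (op a))
    have he : e ≫ Abelian.image.ι (u.app (op a)) = u.app (op a) := Abelian.image.fac _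
    have hk : kernel.ι e ≫ tr X hna = 0 :=
      h0 n a hna le_rfl _ _ ((congrArg (_ ≫ ·) he.symm).trans (by rw [← Category.assoc, kernel.condition, zero_comp]))
    let d := Abelian.epiDesc e (tr X hna) hk
    have hd : e ≫ d = tr X hna := Abelian.comp_epiDesc _ _ _
    have hdu : d ≫ u.app (op n) = Abelian.image.ι (u.app (op a)) ≫ tr Y hna := by
      rw [← cancel_epi e, reassoc_of% hd, reassoc_of% he, tr_naturality]
    refine ⟨l ≫ d, ?_, ?_⟩
    · rw [Category.assoc, hdu, reassoc_of% hl, tr_tr]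
    · have : u.app (op m) ≫ l = tr X ham ≫ e := by
        rw [← cancel_mono (Abelian.image.ι (u.app (op a))), Category.assoc, Category.assoc, hl, he, tr_naturality]
      rw [reassoc_of% this, hd, tr_tr]
  choose ψ hψ1 hψ2 using pre
  refine ⟨r0 + (r0 + r1), ⟨{
    ψ := fun n m h => ψ (n + r0) m (by omega) (by omega) ≫ tr X (Nat.le_add_right n r0)
    ψ_u := fun n m h => by rw [Category.assoc, tr_naturality, reassoc_of% hψ1 (n + r0) m, tr_tr]
    u_ψ := fun n m h => by rw [reassoc_of% hψ2 (n + r0) m, tr_tr]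
    ψ_tr := fun n n' m h hn => ?_
    tr_ψ := fun n m m' h hm => ?_ }⟩⟩
  · have := h0 n (n + r0) (Nat.le_add_right n r0) le_rfl _
      (ψ (n' + r0) m (by omega) (by omega) ≫ tr X (show n + r0 ≤ n' + r0 by omega) - ψ (n + r0) m (by omega) (by omega))
      (by rw [Preadditive.sub_comp, Category.assoc, tr_naturality, reassoc_of% hψ1 (n' + r0) m, hψ1, tr_tr, sub_self])
    rw [Preadditive.sub_comp, Category.assoc, tr_tr, sub_eq_zero] at this
    rw [Category.assoc, tr_tr]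
    exact this
  · have := h0 n (n + r0) (Nat.le_add_right n r0) le_rfl _
      (tr Y hm ≫ ψ (n + r0) m (by omega) (by omega) - ψ (n + r0) m' (by omega) (by omega))
      (by rw [Preadditive.sub_comp, Category.assoc, hψ1, hψ1, tr_tr, sub_self])
    rw [Preadditive.sub_comp, Category.assoc, sub_eq_zero] at this
    exact this

theorem isARIso_iff (u : X ⟶ Y) : IsARIso u ↔ ∃ r, Nonempty (ARInv u r) :=
  ⟨exists_inv, fun ⟨_, ⟨I⟩⟩ => isARIso_of_inv I⟩

theorem isARIso_comp {u : X ⟶ Y} {v : Y ⟶ Z} (hu : IsARIso u) (hv : IsARIso v) : IsARIso (u ≫ v) := by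
  obtain ⟨r, ⟨I⟩⟩ := exists_inv hu
  obtain ⟨s, ⟨J⟩⟩ := exists_inv hv
  refine isARIso_of_inv (r := r + s)
    { ψ := fun n m h => J.ψ (n + r) m (by omega) ≫ I.ψ n (n + r) le_rfl
      ψ_u := fun n m h => by
        rw [NatTrans.comp_app, Category.assoc, reassoc_of% I.ψ_u n (n + r) le_rfl, tr_naturality,
          reassoc_of% J.ψ_u (n + r) m (by omega), tr_tr]
      u_ψ := fun n m h => by
        rw [NatTrans.comp_app, Category.assoc, reassoc_of% J.u_ψ (n + r) m (by omega), I.tr_ψ, I.u_ψ]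
      ψ_tr := fun n n' m h hn => by
        rw [Category.assoc, I.ψ_tr n n' (n' + r) le_rfl hn, ← I.tr_ψ n (n + r) (n' + r) le_rfl (by omega),
          reassoc_of% J.ψ_tr (n + r) (n' + r) m (by omega) (by omega)]
      tr_ψ := fun n m m' h hm => by rw [reassoc_of% J.tr_ψ (n + r) m m' (by omega) hm] }

theorem isARIso_of_precomp {u : X ⟶ Y} {v : Y ⟶ Z} (hu : IsARIso u) (huv : IsARIso (u ≫ v)) : IsARIso v := by
  obtain ⟨r, ⟨I⟩⟩ := exists_inv hu
  obtain ⟨s, ⟨K⟩⟩ := exists_inv huv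
  constructor
  · refine (isARNull_kernel_iff v).2 ⟨r + s, fun n m h hm T x hx => ?_⟩
    have h1 : (x ≫ I.ψ (n + s) m (by omega)) ≫ (u ≫ v).app (op (n + s)) = 0 := by
      rw [NatTrans.comp_app, Category.assoc, reassoc_of% I.ψ_u (n + s) m (by omega), tr_naturality,
        reassoc_of% hx, zero_comp]
    have h2 : x ≫ I.ψ (n + s) m (by omega) ≫ tr X (Nat.le_add_right n s) = 0 := by
      rw [← K.u_ψ n (n + s) le_rfl, ← Category.assoc, ← Category.assoc, h1, zero_comp]
    have := congrArg (· ≫ u.app (op n)) h2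
    simp only [Category.assoc, zero_comp, tr_naturality] at this
    rwa [reassoc_of% I.ψ_u (n + s) m (by omega), tr_tr] at this
  · refine (isARNull_cokernel_iff v).2 ⟨s, fun n m h hm T x hx => ?_⟩
    rw [← K.ψ_u n m hm, NatTrans.comp_app, Category.assoc, Category.assoc, hx, comp_zero, comp_zero]

end Groth.Agent.ARLib
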