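import Groth.Agent.ARLib.AdicOps
import Groth.Agent.ARLib.Adapted
import Groth.Agent.ARLib.Criterion

/-! chains of strict subsystems; strict graded finite type -/

universe w v u

open CategoryTheory CategoryTheory.Limits Opposite ARSys

namespace Groth.Agent.ARLib

set_option backward.isDefEq.respectTransparency.types false

variable {C : Type u} [Category.{v} C] [Abelian C] {A : Type w} [CommRing A] [Linear A C] {J : Ideal A} {X : PS C}

/-- a subsystem at one index -/
noncomputable def levelAt (S : Subobject X) (n : ℕ) : Subobject (X.obj (op n)) :=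
  imageSubobject (S.arrow.app (op n))

theorem levelAt_factors_iff (S : Subobject X) (n : ℕ) {B : C} (x : B ⟶ X.obj (op n)) :
    (levelAt S n).Factors x ↔ ∃ y, y ≫ S.arrow.app (op n) = x := by
  have : Mono (S.arrow.app (op n)) := (NatTrans.mono_iff_mono_app _).1 inferInstance _
  rw [levelAt, imageSubobject_mono, Subobject.mk_factors_iff]
  exact ⟨fun ⟨y, hy⟩ => ⟨y, hy⟩, fun ⟨y, hy⟩ => ⟨y, hy⟩⟩

theorem levelAt_mono (n : ℕ) : Monotone fun S : Subobject X => levelAt S n := fun S T h =>
  SubLat.le_iff_factors.2 fun B x hx => by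
    obtain ⟨y, rfl⟩ := (levelAt_factors_iff S n x).1 hx
    refine (levelAt_factors_iff T n _).2 ⟨y ≫ (Subobject.ofLE S T h).app (op n), ?_⟩
    rw [Category.assoc, ← NatTrans.comp_app, Subobject.ofLE_arrow]

theorem eq_of_levelAt {S T : Subobject X} (h : S ≤ T) (he : ∀ n, levelAt T n ≤ levelAt S n) : S = T := by
  have hiso : ∀ n : ℕᵒᵖ, IsIso ((Subobject.ofLE S T h).app n) := by
    rintro ⟨n⟩
    have : Mono ((Subobject.ofLE S T h).app (op n)) := (NatTrans.mono_iff_mono_app _).1 inferInstance _
    have : Mono (T.arrow.app (op n)) := (NatTrans.mono_iff_mono_app _).1 inferInstance _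
    obtain ⟨y, hy⟩ := (levelAt_factors_iff S n _).1
      (Subobject.factors_of_le _ (he n) ((levelAt_factors_iff T n _).2 ⟨𝟙 _, Category.id_comp _⟩))
    have e : y ≫ (Subobject.ofLE S T h).app (op n) = 𝟙 _ := by
      rw [← cancel_mono (T.arrow.app (op n)), Category.assoc, ← NatTrans.comp_app, Subobject.ofLE_arrow, hy,
        Category.id_comp]
    refine ⟨y, ?_, e⟩
    rw [← cancel_mono ((Subobject.ofLE S T h).app (op n)), Category.assoc, e, Category.comp_id, Category.id_comp]
  have : IsIso (Subobject.ofLE S T h) := NatIso.isIso_of_isIso_app _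
  exact Subobject.eq_of_comm (asIso (Subobject.ofLE S T h)) (Subobject.ofLE_arrow h)

theorem push_tr_levelAt {S : Subobject X} (hS : IsStrict (Subobject.underlying.obj S : PS C)) {n m : ℕ} (h : n ≤ m) :
    SubLat.push (tr X h) (levelAt S m) = levelAt S n := by
  refine le_antisymm (SubLat.le_iff_factors.2 fun B x hx => ?_) (SubLat.le_iff_factors.2 fun B x hx => ?_)
  · obtain ⟨B', π, _, s, hs, e⟩ := (SubLat.push_factors_iff x).1 hx
    obtain ⟨y, rfl⟩ := (levelAt_factors_iff S m s).1 hs
    refine SubLat.factors_of_epi π x ((levelAt_factors_iff S n _).2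
      ⟨y ≫ tr (Subobject.underlying.obj S : PS C) h, ?_⟩)
    rw [e, Category.assoc, Category.assoc, tr_naturality]
  · obtain ⟨y, rfl⟩ := (levelAt_factors_iff S n x).1 hx
    have := hS n m h
    obtain ⟨B', π, hπ, z, hz⟩ := surjective_up_to_refinements_of_epi (tr (Subobject.underlying.obj S : PS C) h) y
    refine (SubLat.push_factors_iff _).2 ⟨B', π, hπ, z ≫ S.arrow.app (op m), (levelAt_factors_iff S m _).2 ⟨z, rfl⟩, ?_⟩
    rw [reassoc_of% hz, Category.assoc, tr_naturality]

theorem strict_chain_stabilizes [IsNoetherianRing A] (hX : IsAdicNoeth J X) (Z : ℕ →o Subobject X)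
    (hZ : ∀ k : ℕ, IsStrict ((Subobject.underlying.obj (Z k) : PS C))) :
    ∃ k₀ : ℕ, ∀ k : ℕ, k₀ ≤ k → Z k = Z k₀ := by
  let M : ℕ → (q : ℕ) → Subobject (X.obj (op q)) := fun i q => levelAt (Z i) q ⊓ Fsub X q q
  obtain ⟨i₀, hi₀⟩ := stable_stationary hX M (fun i q => inf_le_right) (fun i a ha q => by
    refine le_inf (SubLat.le_iff_factors.2 fun B x hx => ?_)
      (((SubLat.gc _).monotone_l inf_le_right).trans (mul_push_le hX.1 ha q))
    obtain ⟨B', π, _, s, hs, e⟩ := (SubLat.push_factors_iff x).1 hx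
    obtain ⟨y, rfl⟩ := (levelAt_factors_iff _ _ s).1 (((Subobject.inf_factors _).1 hs).1)
    have := hZ i q (q + 1) (Nat.le_succ q)
    obtain ⟨B'', π', _, z, hz⟩ := surjective_up_to_refinements_of_epi
      (tr (Subobject.underlying.obj (Z i) : PS C) (Nat.le_succ q)) y
    refine SubLat.factors_of_epi (π' ≫ π) x ((levelAt_factors_iff _ _ _).2 ⟨a • z, ?_⟩)
    rw [Category.assoc, e, Category.assoc, reassoc_of% hz, tr_naturality_assoc, tr_mul, Linear.comp_smul,
      Category.comp_id, Linear.smul_comp, Linear.comp_smul])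
    fun i j h q => inf_le_inf_right _ (levelAt_mono q (Z.monotone h))
  refine ⟨i₀, fun k hk => (eq_of_levelAt (Z.monotone hk) fun n => ?_).symm⟩
  have hM : ∀ q, levelAt (Z k) q ⊓ Fsub X q q ≤ levelAt (Z i₀) q ⊓ Fsub X q q := fun q => le_of_eq (congrFun (hi₀ k hk) q)
  induction n with
  | zero => exact (le_inf le_rfl le_top).trans ((hM 0).trans inf_le_left)
  | succ n ih =>
    refine le_of_eq (SubLat.eq_of_le_of_shortExact (Fsub_diag_shortExact hX.1 n)
      (levelAt_mono (n + 1) (Z.monotone hk)) ?_ ?_).symm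
    · refine SubLat.le_iff_factors.2 fun B x hx => ?_
      rw [SubLat.pull_factors_iff] at hx ⊢
      exact Subobject.factors_of_le _ ((hM (n + 1)).trans inf_le_left) ((Subobject.inf_factors _).2
        ⟨hx, Subobject.factors_of_factors_right _ (Subobject.factors_self _)⟩)
    · rw [push_tr_levelAt (hZ k), push_tr_levelAt (hZ i₀)]
      exact ih

theorem Fsub_factors_of_tr (X : PS C) {q m : ℕ} (h : q ≤ m) {B : C} (w : B ⟶ X.obj (op m))
    (hw : (Fsub X q q).Factors (w ≫ tr X h)) : (Fsub X q m).Factors w := by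
  match q with
  | 0 => exact Subobject.top_factors _
  | k + 1 =>
    rw [Fsub_succ X (show k ≤ m by omega), kernelSubobject_factors_iff]
    rw [Fsub_diag_factors_iff, Category.assoc, tr_tr] at hw
    exact hw

theorem isARAdic_of_grsFiniteType (hJ : J.FG ∨ HasCoproducts.{w} C) (hX : IsStrict X) (hA : IsAdapted J X)
    (hft : GrsFiniteType J X) : IsARAdic J X := by
  have kX : TermKilled J X := fun n a ha => (top_arrow_comp_eq_zero_iff _).1 (by
    have := hA n (n + 1) le_rfl a ha
    rwa [Nat.sub_self] at this)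
  choose Q p hp using fun (k q : ℕ) => exists_isQuot hJ k (X.obj (op q))
  let M : ℕ → (q : ℕ) → Subobject (X.obj (op q)) := fun i q => Fsub X q q ⊓ kernelSubobject (p (q - i) q)
  have mem : ∀ i q {B : C} (x : B ⟶ X.obj (op q)), (M i q).Factors x ↔ (Fsub X q q).Factors x ∧
      ∀ (Y : C) (φ : X.obj (op q) ⟶ Y), HomKilledBy (J ^ (q - i)) φ → x ≫ φ = 0 := fun i q B x => by
    rw [Subobject.inf_factors, kernelSubobject_factors_iff]
    refine and_congr_right fun _ => ⟨fun h Y φ hφ => ?_, fun h => h _ _ (IsQuot.homKilledBy (hp _ _))⟩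
    obtain ⟨ψ, hψ, -⟩ := (hp (q - i) q).2 Y φ hφ
    rw [← hψ, reassoc_of% h, zero_comp]
  have hG : ∀ i, IsGrSub J X (M i) := fun i => ⟨fun q => inf_le_left, fun p' q a ha => by
    set hq : q ≤ p' + q := Nat.le_add_left q p'
    refine SubLat.le_iff_factors.2 fun B x hx => ?_
    obtain ⟨B', π, _, z, hz⟩ := surjective_up_to_refinements_of_epi
      (factorThruImageSubobject (((Subobject.pullback (tr X hq)).obj (M i q)).arrow ≫ (a • 𝟙 _)))
      ((imageSubobject _).factorThru x hx)
    let w := z ≫ ((Subobject.pullback (tr X hq)).obj (M i q)).arrow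
    have e : π ≫ x = a • w := by
      rw [← Subobject.factorThru_arrow _ x hx, reassoc_of% hz, imageSubobject_arrow_comp, Linear.comp_smul,
        Category.comp_id, Linear.comp_smul]
    have hw : (M i q).Factors (w ≫ tr X hq) := by
      have sq := Subobject.isPullback (tr X hq) (M i q)
      rw [Category.assoc, ← sq.w]
      exact Subobject.factors_of_factors_right _ (Subobject.factors_of_factors_right _ (Subobject.factors_self _))
    obtain ⟨hw1, hw2⟩ := (mem i q _).1 hw
    refine SubLat.factors_of_epi π x ((mem i (p' + q) _).2 ⟨?_, fun Y φ hφ => ?_⟩)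
    · rw [e]
      have hin : (Fsub X q (p' + q)).Factors w := by
        exact Fsub_factors_of_tr X hq w hw1
      refine Subobject.factors_of_le _ ((isAdapted_iff X).1 hA (p' + q) p' q a ha) ?_
      rw [show a • w = (Fsub X q (p' + q)).factorThru w hin ≫
        ((Fsub X q (p' + q)).arrow ≫ (a • 𝟙 _)) by
          rw [Subobject.factorThru_arrow_assoc, Linear.comp_smul, Category.comp_id]]
      exact imageSubobject_factors_comp_self _ _
    · rw [e, Linear.smul_comp, ← Linear.comp_smul]
      have hkill : kernel.ι (tr X hq) ≫ (a • φ) = 0 := by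
        have h0 := hA (p' + q) p' (by omega) a ha
        rw [show p' + q + 1 - p' = q + 1 by omega, Fsub_succ X hq] at h0
        have := congrArg ((kernelSubobjectIso (tr X hq)).inv ≫ ·) h0
        simp only [← Category.assoc, kernelSubobject_arrow', comp_zero] at this
        have h2 := congrArg (· ≫ φ) this
        simpa using h2
      have := hX q (p' + q) hq
      have hχ : tr X hq ≫ Abelian.epiDesc (tr X hq) (a • φ) hkill = a • φ := Abelian.comp_epiDesc _ _ _
      rw [← hχ, ← Category.assoc]
      refine hw2 _ _ fun b hb => ?_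
      rw [← cancel_epi (tr X hq), comp_zero, Linear.comp_smul, hχ, smul_smul]
      refine killed_mono hφ (Ideal.pow_le_pow_right (m := p' + q - i) (n := q - i + p') (by omega)) _ ?_
      rw [pow_add]
      exact Ideal.mul_mem_mul hb ha⟩
  have hmono : Monotone M := fun i j h q => SubLat.le_iff_factors.2 fun B x hx => by
    obtain ⟨h1, h2⟩ := (mem i q x).1 hx
    exact (mem j q x).2 ⟨h1, fun Y φ hφ => h2 Y φ (killed_mono hφ (Ideal.pow_le_pow_right (by omega)))⟩
  obtain ⟨i, hi⟩ := hft M hG hmono (fun q => by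
    refine ⟨?_, fun U hU => ?_⟩
    · rintro _ ⟨i, rfl⟩; exact inf_le_left
    · refine le_trans ?_ (hU ⟨q, rfl⟩)
      refine SubLat.le_iff_factors.2 fun B x hx => (mem q q x).2 ⟨hx, fun Y φ hφ => ?_⟩
      rw [Nat.sub_self, pow_zero] at hφ
      have := hφ 1 (by simp)
      rw [one_smul] at this
      rw [this, comp_zero])
  refine (isARAdic_iff_fker hJ hX kX).2 ⟨i + 1, by omega, fun n Y φ hφ => ?_⟩
  have hF : Fker X n = Fsub X n n := by
    match n with
    | 0 => rfl
    | k + 1 => exact (Fsub_succ X (Nat.le_succ k)).symm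
  rw [hF]
  refine ((mem i n _).1 ?_).2 Y φ (killed_mono hφ (Ideal.pow_le_pow_right (by omega)))
  rw [hi n]
  exact Subobject.factors_self _

end Groth.Agent.ARLib
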