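import Groth.Agent.ARLib.Invariance
import Groth.Agent.ARLib.StrictChains

/-! Noetherian systems adic up to translation -/

universe w v u

open CategoryTheory CategoryTheory.Limits Opposite ARSys

namespace Groth.Agent.ARLib

set_option backward.isDefEq.respectTransparency.types false

variable {C : Type u} [Category.{v} C] [Abelian C] {A : Type w} [CommRing A] [Linear A C] {J : Ideal A}

theorem exists_adicNoeth {X : PS C} (h : IsARAdicNoeth J X) :
    ∃ (Y : PS C) (u : Y ⟶ X), IsAdicNoeth J Y ∧ IsARIso u := by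
  obtain ⟨⟨-, Y, u, hY, hu⟩, hn⟩ := h
  obtain ⟨r, ⟨I⟩⟩ := exists_inv hu
  refine ⟨Y, u, ⟨hY, fun n => ?_⟩, hu⟩
  have := epi_ψ_of_strict (isStrict_of_isAdic hY) I n
  have := hn (n + r)
  exact SubLat.isNoetherianObject_of_epi (I.ψ n (n + r) le_rfl)

theorem isAdapted_of_isAdic {X : PS C} (hX : IsAdic J X) : IsAdapted J X := by
  intro n p hp a ha
  rcases hq : n + 1 - p with _ | k
  · obtain rfl : p = n + 1 := by omega
    exact (top_arrow_comp_eq_zero_iff _).2 (hX.1 n a ha)
  · have hkn : k ≤ n := by omega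
    rw [Fsub_succ X hkn]
    obtain ⟨θ, hθ, -⟩ := (hX.2 k n hkn).2 _ (a • 𝟙 (X.obj (op n))) (fun b hb => by
      rw [smul_smul]
      refine hX.1 n (b * a) (Ideal.pow_le_pow_right (m := n + 1) (n := k + 1 + p) (by omega) ?_)
      rw [pow_add]
      exact Ideal.mul_mem_mul hb ha)
    rw [← hθ, kernelSubobject_arrow_comp_assoc, zero_comp]

/-- Artin–Rees: strict subsystems of Noetherian adic systems are adic up to translation -/
theorem isARAdic_of_strict_sub [IsNoetherianRing A] {X Z : PS C} (hX : IsAdicNoeth J X) (i : Z ⟶ X) [Mono i]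
    (hZ : IsStrict Z) : IsARAdic J Z := by
  have hmono : ∀ n, Mono (i.app (op n)) := fun n => (NatTrans.mono_iff_mono_app _).1 inferInstance _
  have hA : IsAdapted J Z := by
    intro n p hp a ha
    have hfac : (Fsub X (n + 1 - p) n).Factors ((Fsub Z (n + 1 - p) n).arrow ≫ i.app (op n)) := by
      rcases hq : n + 1 - p with _ | k
      · exact Subobject.top_factors _
      · rw [Fsub_succ X (show k ≤ n by omega), Fsub_succ Z (show k ≤ n by omega), kernelSubobject_factors_iff,
          Category.assoc, ← tr_naturality, kernelSubobject_arrow_comp_assoc, zero_comp]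
    rw [← cancel_mono (i.app (op n)), zero_comp, Category.assoc]
    have := isAdapted_of_isAdic hX.1 n p hp a ha
    rw [Linear.smul_comp, Category.id_comp, show a • i.app (op n) = i.app (op n) ≫ (a • 𝟙 _) by
      rw [Linear.comp_smul, Category.comp_id], ← Category.assoc, ← Subobject.factorThru_arrow _ _ hfac, Category.assoc,
      this, comp_zero]
  refine isARAdic_of_grsFiniteType (Or.inl (IsNoetherian.noetherian J)) hZ hA fun M hM hMmono hlub => ?_
  let N : ℕ → (q : ℕ) → Subobject (X.obj (op q)) := fun k q => SubLat.push (i.app (op q)) (M k q)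
  have hNF : ∀ k q, N k q ≤ Fsub X q q := fun k q => by
    rw [SubLat.gc]
    refine le_trans ((hM k).1 q) (SubLat.le_iff_factors.2 fun B x hx => (SubLat.pull_factors_iff x).2 ?_)
    match q, x, hx with
    | 0, x, _ => exact Subobject.top_factors _
    | q + 1, x, hx =>
      rw [Fsub_diag_factors_iff, Category.assoc, ← tr_naturality, reassoc_of% (Fsub_diag_factors_iff Z q x).1 hx, zero_comp]
  obtain ⟨k₀, hk₀⟩ := stable_stationary hX N hNF (fun k a ha q => by
    refine SubLat.le_iff_factors.2 fun B x hx => ?_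
    obtain ⟨B', π, _, s, hs, e⟩ := (SubLat.push_factors_iff x).1 hx
    obtain ⟨B'', π', _, z, hz, e'⟩ := (SubLat.push_factors_iff s).1 hs
    have := hZ q (q + 1) (Nat.le_succ q)
    obtain ⟨B''', π'', _, l, hl⟩ := surjective_up_to_refinements_of_epi (tr Z (Nat.le_succ q)) z
    have hin : (M k (q + 1)).Factors (a • l) := by
      have main : ∀ (n : ℕ) (hn : n = 1 + q) (hqn : q ≤ n) (l : B''' ⟶ Z.obj (op n)),
          (M k q).Factors (l ≫ tr Z hqn) → (M k n).Factors (a • l) := by
        intro n hn hqn l hl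
        subst hn
        refine Subobject.factors_of_le _ ((hM k).2 1 q a (by simpa using ha)) ?_
        have sq := Subobject.isPullback (tr Z hqn) (M k q)
        rw [show a • l = sq.lift ((M k q).factorThru _ hl) l ((M k q).factorThru_arrow _ hl) ≫
          (((Subobject.pullback (tr Z hqn)).obj (M k q)).arrow ≫ (a • 𝟙 _)) by
            rw [← Category.assoc, sq.lift_snd, Linear.comp_smul, Category.comp_id]]
        exact imageSubobject_factors_comp_self _ _
      refine main (q + 1) (by omega) (Nat.le_succ q) l ?_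
      rw [← hl]
      exact Subobject.factors_of_factors_right _ hz
    refine SubLat.factors_of_epi (π'' ≫ π' ≫ π) x ((SubLat.push_factors_iff _).2
      ⟨B''', 𝟙 _, inferInstance, a • l, hin, ?_⟩)
    rw [Category.id_comp, Category.assoc, Category.assoc, e, reassoc_of% e', reassoc_of% hl, tr_naturality_assoc,
      tr_mul, Linear.comp_smul, Category.comp_id, Linear.smul_comp, Linear.comp_smul])
    (fun a b h q => (SubLat.gc _).monotone_l (hMmono h q))
  refine ⟨k₀, fun q => le_antisymm ((hM k₀).1 q) ((hlub q).2 ?_)⟩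
  rintro _ ⟨k, rfl⟩
  rcases le_total k k₀ with h | h
  · exact hMmono h q
  · refine SubLat.le_iff_factors.2 fun B x hx => ?_
    have hN : (N k₀ q).Factors (x ≫ i.app (op q)) := by
      rw [← hk₀ k h]
      exact (SubLat.push_factors_iff _).2 ⟨B, 𝟙 _, inferInstance, x, hx, Category.id_comp _⟩
    obtain ⟨B', π, _, s, hs, e⟩ := (SubLat.push_factors_iff _).1 hN
    have := hmono q
    rw [← Category.assoc, cancel_mono] at e
    exact SubLat.factors_of_epi π x (e ▸ hs)

theorem isARAdicNoeth_of_sub [IsNoetherianRing A] {X X' : PS C} (hX : IsARAdicNoeth J X) (f : X' ⟶ X) [Mono f]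
    (hM : IsMLAR X') : IsARAdicNoeth J X' := by
  refine ⟨?_, fun n => ?_⟩
  · obtain ⟨Y, u, hY, hu⟩ := exists_adicNoeth hX
    obtain ⟨r, ⟨I⟩⟩ := exists_inv hu
    let w := u ≫ cokernel.π f
    have hexact : (ShortComplex.mk f (cokernel.π f) (cokernel.condition f)).ShortExact :=
      { exact := ShortComplex.exact_of_g_is_cokernel _ (cokernelIsCokernel f) }
    let v : kernel w ⟶ X' := (hexact.exact.lift (kernel.ι w ≫ u) (by
      rw [Category.assoc]
      exact kernel.condition w))
    have hv : v ≫ f = kernel.ι w ≫ u := hexact.exact.lift_f _ _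
    have hmf : ∀ n, Mono (f.app (op n)) := fun n => (NatTrans.mono_iff_mono_app _).1 inferInstance _
    have hvi : IsARIso v := by
      constructor
      · refine (isARNull_kernel_iff v).2 ⟨r, fun n m h hm B x hx => ?_⟩
        have hk : Mono ((kernel.ι w).app (op n)) := (NatTrans.mono_iff_mono_app _).1 inferInstance _
        have hx' : (x ≫ (kernel.ι w).app (op m)) ≫ u.app (op m) = 0 := by
          have := congrArg (fun t : kernel w ⟶ X => x ≫ t.app (op m)) hv
          simp only [NatTrans.comp_app] at this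
          rw [Category.assoc, ← this, reassoc_of% hx, zero_comp]
        rw [← cancel_mono ((kernel.ι w).app (op n)), zero_comp, Category.assoc, tr_naturality, ← I.u_ψ n m hm,
          ← Category.assoc, ← Category.assoc, hx', zero_comp]
      · refine (isARNull_cokernel_iff v).2 ⟨r, fun n m h hm B x hx => ?_⟩
        obtain ⟨y, hy⟩ := kernel_lift_app w (f.app (op m) ≫ I.ψ n m hm) (by
          rw [NatTrans.comp_app, Category.assoc, reassoc_of% I.ψ_u n m hm, tr_naturality, ← Category.assoc,
            ← NatTrans.comp_app, cokernel.condition]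
          exact zero_comp)
        have e : y ≫ v.app (op n) = tr X' h := by
          have := hmf n
          rw [← cancel_mono (f.app (op n)), Category.assoc, ← NatTrans.comp_app, hv, NatTrans.comp_app,
            reassoc_of% hy, I.ψ_u, tr_naturality]
        rw [← e, Category.assoc, hx, comp_zero]
    obtain ⟨Z, ι, hZ, hι, _⟩ := exists_strict_arIso (kernel w) (isMLAR_of_arIso v hvi hM)
    exact isARAdic_of_arIso (isARAdic_of_strict_sub hY (ι ≫ kernel.ι w) hZ) (ι ≫ v) (isARIso_comp hι hvi)
      (termKilled_of_mono f hX.1.1)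
  · have := (NatTrans.mono_iff_mono_app f).1 inferInstance (op n)
    have := hX.2 n
    exact isNoetherianObject_of_mono (f.app (op n))

theorem isARAdicNoeth_X₁ [IsNoetherianRing A] {S : ShortComplex (PS C)} (hS : S.ShortExact)
    (h₂ : IsARAdicNoeth J S.X₂) (h₃ : IsARAdic J S.X₃) : IsARAdicNoeth J S.X₁ :=
  have := hS.mono_f
  isARAdicNoeth_of_sub h₂ S.f (isMLAR_X₁ hS h₂.1.1 (isMLAR_of_isARAdic h₂.1) h₃)

theorem isARAdicNoeth_kernel_cokernel [IsNoetherianRing A] {X Y : PS C} (u : X ⟶ Y)
    (hX : IsARAdicNoeth J X) (hY : IsARAdicNoeth J Y) :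
    IsARAdicNoeth J (kernel u) ∧ IsARAdicNoeth J (cokernel u) := by
  let i := Abelian.image.ι u
  let e := Abelian.factorThruImage u
  have he : e ≫ i = u := Abelian.image.fac _
  have hk : kernel.ι u ≫ e = 0 := by
    rw [← cancel_mono i, zero_comp, Category.assoc]
    exact (congrArg (_ ≫ ·) he).trans (kernel.condition u)
  have hS : (ShortComplex.mk (kernel.ι u) e hk).ShortExact := by
    refine { exact := ?_ }
    rw [ShortComplex.exact_iff_exact_up_to_refinements]
    intro B x hx
    change x ≫ e = 0 at hx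
    exact ⟨B, 𝟙 _, inferInstance, kernel.lift u x ((congrArg (x ≫ ·) he.symm).trans
      ((Category.assoc _ _ _).symm.trans (by rw [hx, zero_comp]))), by simp⟩
  have hi : i ≫ cokernel.π u = 0 := kernel.condition _
  have hS' : (ShortComplex.mk i (cokernel.π u) hi).ShortExact :=
    { exact := ShortComplex.exact_of_f_is_kernel _ (kernelIsKernel (cokernel.π u)) }
  have hI : IsARAdicNoeth J (Abelian.image u) := isARAdicNoeth_of_sub hY i (isMLAR_X₃ hS (isMLAR_of_isARAdic hX.1))
  have kC : TermKilled J (cokernel u) := fun n => by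
    have := (NatTrans.epi_iff_epi_app (cokernel.π u)).1 inferInstance (op n)
    exact killedBy_of_epi (hY.1.1 n) ((cokernel.π u).app (op n))
  refine ⟨isARAdicNoeth_X₁ hS hX hI.1,
    isARAdic_X₃ (Or.inl (IsNoetherian.noetherian J)) hS' kC (isMLAR_of_isARAdic hI.1) hY.1, fun n => ?_⟩
  have := (NatTrans.epi_iff_epi_app (cokernel.π u)).1 inferInstance (op n)
  have := hY.2 n
  exact SubLat.isNoetherianObject_of_epi ((cokernel.π u).app (op n))

theorem isARAdicNoeth_X₂ [IsNoetherianRing A] {S : ShortComplex (PS C)} (hS : S.ShortExact) (k₂ : TermKilled J S.X₂)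
    (h₁ : IsARAdicNoeth J S.X₁) (h₃ : IsARAdicNoeth J S.X₃) : IsARAdicNoeth J S.X₂ :=
  ⟨isARAdic_X₂ (Or.inl (IsNoetherian.noetherian J)) hS k₂ h₁.1 h₃.1, fun n =>
    @SubLat.isNoetherianObject_of_shortExact _ _ _ _ (shortExact_app hS n) (h₁.2 n) (h₃.2 n)⟩

theorem isARAdicArt_X₂ [IsNoetherianRing A] {S : ShortComplex (PS C)} (hS : S.ShortExact) (k₂ : TermKilled J S.X₂)
    (h₁ : IsARAdicArt J S.X₁) (h₃ : IsARAdicArt J S.X₃) : IsARAdicArt J S.X₂ :=
  ⟨isARAdic_X₂ (Or.inl (IsNoetherian.noetherian J)) hS k₂ h₁.1 h₃.1, fun n =>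
    @SubLat.isArtinianObject_of_shortExact _ _ _ _ (shortExact_app hS n) (h₁.2 n) (h₃.2 n)⟩

end Groth.Agent.ARLib

namespace Groth.Agent.ARLib

variable {C : Type u} [Category.{v} C] [Abelian C] {A : Type w} [CommRing A] [Linear A C] {J : Ideal A}

theorem isARIso_id (X : PS C) : IsARIso (𝟙 X) :=
  isARIso_of_inv (r := 0)
    { ψ := fun _ _ h => tr X h
      ψ_u := fun _ _ _ => Category.comp_id _
      u_ψ := fun _ _ _ => Category.id_comp _
      ψ_tr := fun _ _ _ _ _ => tr_tr X _ _
      tr_ψ := fun _ _ _ _ _ => tr_tr X _ _ }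

theorem isARAdic_of_isAdic {X : PS C} (h : IsAdic J X) : IsARAdic J X := ⟨h.1, X, 𝟙 X, h, isARIso_id X⟩

end Groth.Agent.ARLib
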